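import Cfsg.Agent.OstromWagner.Translation

/-!
# Planes with many homologies

In a plane of odd order with a group all of whose involutions are perspectivities, such that every
antiflag `A, l` with a point `R` on `l` is fixed by an involution, the order is a prime power.
-/

set_option autoImplicit false
set_option linter.style.haveILetI false
set_option linter.unusedVariables false
set_option linter.unusedSectionVars false

namespace Cfsg.Agent.OstromWagner

open Configuration MulAction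

variable {G P L : Type*} [Group G] [MulAction G P] [MulAction G L] [Membership P L]
  [ProjectivePlane P L] [Finite P] [Finite L] [PlaneAut G P L] [FaithfulSMul G P]

/-- A faithful group of collineations is faithful on lines. -/
theorem dual_faithful (G P L : Type*) [Group G] [MulAction G P] [MulAction G L] [Membership P L]
    [ProjectivePlane P L] [Finite P] [Finite L] [PlaneAut G P L] [FaithfulSMul G P] :
    FaithfulSMul G (Configuration.Dual L) := by
  refine ⟨fun {g h} he => ?_⟩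
  have hl : ∀ m : L, (h⁻¹ * g) • m = m := fun m => by
    rw [mul_smul, show g • m = h • m from he m, inv_smul_smul]
  refine (inv_mul_eq_one.1 (eq_one_of_fix (P := P) (g := h⁻¹ * g) fun p => ?_)).symm
  obtain ⟨a, ha, -, -⟩ := exists_line_ne₂ (L := L) p (Classical.choose (exists_line_not_mem (L := L) p))
    (Classical.choose (exists_line_not_mem (L := L) p))
  obtain ⟨b, hb, hba, -⟩ := exists_line_ne₂ (L := L) p a a
  exact point_fixed (hl a) (hl b) hba.symm ha hb

theorem Hom.dual {g : G} {C : P} {b : L} (h : Hom g C b) :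
    Hom (P := Configuration.Dual L) (L := Configuration.Dual P) g b C :=
  ⟨h.ne_one, h.sq, h.centre, h.axis, h.not_mem⟩

/-- The product of two homologies with one axis is an elation with that axis. -/
theorem Hom.prod_same_axis {g g' : G} {C C' : P} {b : L} (h : Hom g C b) (h' : Hom g' C' b)
    (hne : C ≠ C') : g * g' ≠ 1 ∧ g * g' ∈ transl G P b := by
  haveI := dual_faithful G P L
  obtain ⟨h1, hax, O, hOb, htr⟩ := h.dual.prod_same_centre h'.dual hne
  exact ⟨h1, isTrans_of hax (mem_transl.1 htr).1 hOb⟩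

variable [Finite G]

/-- Two homologies with one axis are conjugate under its elations. -/
theorem exists_transl_centre (hn : Odd (ProjectivePlane.order P L)) {g g' : G} {C C' : P} {b : L}
    (h : Hom g C b) (h' : Hom g' C' b) : ∃ t ∈ transl G P b, t • C = C' := by
  by_cases hne : C = C'
  · exact ⟨1, one_mem _, by rw [one_smul, hne]⟩
  obtain ⟨h1, htr⟩ := h.prod_same_axis h' hne
  set a := g * g' with ha
  have hodd : Odd (orderOf a) := by
    refine Odd.of_dvd_nat (transl_card_odd (G := G) hn b) ?_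
    rw [← Subgroup.orderOf_mk a htr]
    exact orderOf_dvd_natCard _
  obtain ⟨r, hr⟩ := hodd
  set u := a ^ (r + 1) with hu
  have huu : u * u = a := by
    rw [hu, ← pow_add, show r + 1 + (r + 1) = orderOf a + 1 by omega, pow_succ, pow_orderOf_eq_one,
      one_mul]
  have hga : g * a * g⁻¹ = a⁻¹ := by
    rw [ha, mul_inv_rev, h.inv_eq, h'.inv_eq, ← mul_assoc g g, h.sq, one_mul]
  have hgu : g * u * g⁻¹ = u⁻¹ := by
    rw [hu, ← conj_pow, hga, inv_pow]
  have hconj : u⁻¹ * g * u = g' := by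
    rw [← hgu, inv_mul_cancel_right, mul_assoc, huu, ha, ← mul_assoc, h.sq, one_mul]
  refine ⟨u⁻¹, inv_mem (pow_mem htr _), centre_unique h'.ne_one ?_ h'.centre⟩
  have := h.centre.conj u⁻¹
  rwa [inv_inv, hconj] at this

variable (hn : Odd (ProjectivePlane.order P L))
  (hinv : ∀ g : G, g ≠ 1 → g * g = 1 → ∃ c : L, FixesLine (P := P) g c)
  (hflag : ∀ (l : L) (A R : P), A ∉ l → R ∈ l →
    ∃ g : G, g ≠ 1 ∧ g * g = 1 ∧ g • l = l ∧ g • A = A ∧ g • R = R)
include hn hinv hflag

theorem flag_hom {l : L} {A R : P} (hA : A ∉ l) (hR : R ∈ l) :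
    ∃ (g : G) (C : P) (b : L), Hom g C b ∧ g • l = l ∧
      ((C = A ∧ b = l) ∨ (C ∈ l ∧ b ≠ l ∧ A ∈ b ∧ (R = C ∨ R ∈ b))) := by
  obtain ⟨g, h1, hsq, hl, hgA, hgR⟩ := hflag l A R hA hR
  obtain ⟨b, hb⟩ := hinv g h1 hsq
  obtain ⟨C, hC⟩ := OstromWagner.exists_centre hb
  have h : Hom g C b := ⟨h1, hsq, hb, hC, centre_not_mem hn h1 hsq hb hC⟩
  refine ⟨g, C, b, h, hl, ?_⟩
  rcases h.fix_line hl with hCl | hlb
  · right
    refine ⟨hCl, fun e => h.not_mem (e ▸ hCl), ?_, ?_⟩
    · exact (h.fix_point hgA).resolve_right fun e => hA (e ▸ hCl)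
    · exact (h.fix_point hgR).symm
  · left
    exact ⟨((h.fix_point hgA).resolve_left fun e => hA (hlb ▸ e)).symm, hlb.symm⟩

/-- There is a non-trivial elation. -/
theorem exists_elation : ∃ (l : L) (t : G), t ∈ transl G P l ∧ t ≠ 1 := by
  classical
  by_contra hcon
  push Not at hcon
  have hU1 : ∀ {g g' : G} {C : P} {b b' : L}, Hom g C b → Hom g' C b' → b = b' := by
    intro g g' C b b' h h'
    by_contra hne
    obtain ⟨h1, -, c, -, hc⟩ := h.prod_same_centre h' hne
    exact h1 (hcon c _ hc)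
  have hU2 : ∀ {g g' : G} {C C' : P} {b : L}, Hom g C b → Hom g' C' b → C = C' := by
    intro g g' C C' b h h'
    by_contra hne
    obtain ⟨h1, hc⟩ := h.prod_same_axis h' hne
    exact h1 (hcon b _ hc)
  obtain ⟨l⟩ : Nonempty L := ⟨(Classical.choose (@ProjectivePlane.exists_config P L _ _) |>
    fun p => Classical.choose (exists_line_not_mem (L := L) p))⟩
  have : Fintype P := Fintype.ofFinite P
  set S : Finset P := Finset.univ.filter fun A : P => A ∉ l ∧ ¬ ∃ g : G, Hom g A l with hS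
  -- two axes through each point
  have hax : ∀ A ∈ S, ∃ C₁ C₂ : P, C₁ ≠ C₂ ∧ C₁ ∈ l ∧ C₂ ∈ l ∧ ∃ (g₁ g₂ : G) (b₁ b₂ : L),
      Hom g₁ C₁ b₁ ∧ Hom g₂ C₂ b₂ ∧ b₁ ≠ b₂ ∧ A ∈ b₁ ∧ A ∈ b₂ := by
    intro A hA
    simp only [hS, Finset.mem_filter, Finset.mem_univ, true_and, not_exists] at hA
    obtain ⟨R₁, hR₁, -⟩ := exists_point_ne l A
    obtain ⟨g₁, C₁, b₁, h₁, -, hcase⟩ := flag_hom hn hinv hflag hA.1 hR₁
    obtain ⟨hC₁, hb₁, hA₁, -⟩ := hcase.resolve_left fun e => hA.2 g₁ (e.1 ▸ e.2 ▸ h₁)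
    obtain ⟨D₁, hD₁, hD₁'⟩ := exists_point_on (P := P) b₁ l hb₁
    obtain ⟨R₂, hR₂, hR₂C, hR₂D⟩ := exists_point_ne₂ l C₁ D₁
    obtain ⟨g₂, C₂, b₂, h₂, -, hcase⟩ := flag_hom hn hinv hflag hA.1 hR₂
    obtain ⟨hC₂, hb₂, hA₂, hR⟩ := hcase.resolve_left fun e => hA.2 g₂ (e.1 ▸ e.2 ▸ h₂)
    have hbb : b₁ ≠ b₂ := by
      intro e
      subst e
      rcases hR with hR | hR
      · exact hR₂C (hR.trans (hU2 h₂ h₁))
      · exact hR₂D (point_unique hb₁ hR hR₂ hD₁ hD₁')
    exact ⟨C₁, C₂, fun e => hbb (hU1 h₁ (e ▸ h₂)), hC₁, hC₂, g₁, g₂, b₁, b₂, h₁, h₂, hbb, hA₁, hA₂⟩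
  haveI : Nonempty L := ⟨l⟩
  haveI : Nonempty G := ⟨1⟩
  haveI : Nonempty P := ⟨(Nondegenerate.exists_point (P := P) l).choose⟩
  choose! C₁ C₂ hne hC₁ hC₂ g₁ g₂ b₁ b₂ h₁ h₂ hbb hA₁ hA₂ using hax
  set T : Finset P := Finset.univ.filter fun p : P => p ∈ l
  have hcard : (S ×ˢ (Finset.univ : Finset Bool)).card ≤ T.offDiag.card := by
    refine Finset.card_le_card_of_injOn
      (fun x => bif x.2 then (C₁ x.1, C₂ x.1) else (C₂ x.1, C₁ x.1)) ?_ ?_
    · rintro ⟨x, i⟩ hx
      have hx' : x ∈ S := (Finset.mem_product.1 hx).1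
      cases i <;> simp [T, hC₁ _ hx', hC₂ _ hx', hne _ hx', (hne _ hx').symm]
    · rintro ⟨A, i⟩ hA ⟨B, j⟩ hB he
      have hA' := (Finset.mem_product.1 hA).1
      have hB' := (Finset.mem_product.1 hB).1
      have key : ({C₁ A, C₂ A} : Finset P) = {C₁ B, C₂ B} := by
        cases i <;> cases j <;> simp only [cond_true, cond_false, Prod.mk.injEq] at he <;>
          rw [he.1, he.2] <;> simp [Finset.pair_comm]
      have hpair : (b₁ A = b₁ B ∧ b₂ A = b₂ B) ∨ (b₁ A = b₂ B ∧ b₂ A = b₁ B) := by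
        have e1 : C₁ A ∈ ({C₁ B, C₂ B} : Finset P) := key ▸ Finset.mem_insert_self _ _
        have e2 : C₂ A ∈ ({C₁ B, C₂ B} : Finset P) := key ▸ by simp
        simp only [Finset.mem_insert, Finset.mem_singleton] at e1 e2
        rcases e1 with e1 | e1 <;> rcases e2 with e2 | e2
        · exact absurd (e1.trans e2.symm) (hne A hA')
        · exact Or.inl ⟨hU1 (h₁ A hA') (e1 ▸ h₁ B hB'), hU1 (h₂ A hA') (e2 ▸ h₂ B hB')⟩
        · exact Or.inr ⟨hU1 (h₁ A hA') (e1 ▸ h₂ B hB'), hU1 (h₂ A hA') (e2 ▸ h₁ B hB')⟩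
        · exact absurd (e1.trans e2.symm) (hne A hA')
      have hAB : A = B := by
        refine point_unique (hbb A hA') (hA₁ A hA') (hA₂ A hA') ?_ ?_
        · rcases hpair with ⟨e, -⟩ | ⟨e, -⟩
          · exact e ▸ hA₁ B hB'
          · exact e ▸ hA₂ B hB'
        · rcases hpair with ⟨-, e⟩ | ⟨-, e⟩
          · exact e ▸ hA₂ B hB'
          · exact e ▸ hA₁ B hB'
      subst hAB
      cases i <;> cases j <;> simp only [cond_true, cond_false, Prod.mk.injEq] at he <;>
        first | rfl | exact absurd he.1 (hne A hA') | exact absurd he.2 (hne A hA')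
  set n := ProjectivePlane.order P L with hn'
  have hT : T.card = n + 1 := by
    rw [hn', ← card_on (P := P) l, Nat.card_eq_fintype_card, Fintype.card_subtype]
  have hSc : n ^ 2 ≤ S.card + 1 := by
    have e : (Finset.univ.filter fun A : P => A ∉ l).card = n ^ 2 := by
      rw [hn', ← card_off (P := P) l, Nat.card_eq_fintype_card, Fintype.card_subtype]
    rw [← e, ← Finset.card_filter_add_card_filter_not
      (s := Finset.univ.filter fun A : P => A ∉ l) (fun A => ∃ g : G, Hom g A l),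
      Finset.filter_filter, Finset.filter_filter, add_comm]
    refine Nat.add_le_add le_rfl (Finset.card_le_one.2 fun A hA B hB => ?_)
    simp only [Finset.mem_filter, Finset.mem_univ, true_and] at hA hB
    obtain ⟨-, g, hg⟩ := hA
    obtain ⟨-, g', hg'⟩ := hB
    exact hU2 hg hg'
  rw [Finset.card_product, Finset.card_univ, Fintype.card_bool, Finset.offDiag_card, hT] at hcard
  have hn3 : 3 ≤ n := by
    have := two_le_order P L
    obtain ⟨r, hr⟩ := hn
    omega
  have : (n + 1) * (n + 1) - (n + 1) = (n + 1) * n := by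
    rw [← Nat.mul_sub_one, Nat.add_sub_cancel]
  rw [this] at hcard
  nlinarith

theorem prime_power_single {l : L} {t₀ : G} (ht₀ : t₀ ∈ transl G P l) (h1 : t₀ ≠ 1) {C₀ : P}
    (hC₀ : ∀ t ∈ transl G P l, HasCentre (L := L) t C₀) :
    ∃ p e : ℕ, p.Prime ∧ ProjectivePlane.order P L = p ^ e := by
  haveI := dual_faithful G P L
  have hC₀l : C₀ ∈ l := (mem_transl.1 ht₀).centre_mem h1 (hC₀ _ ht₀)
  have hinvC : ∀ g : G, g • l = l → g • C₀ = C₀ := by
    intro g hg
    have hmem : g * t₀ * g⁻¹ ∈ transl G P l := by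
      have := transl_conj ht₀ g
      rwa [hg] at this
    exact centre_unique (conj_eq_one_iff.not.2 h1) ((hC₀ _ ht₀).conj g) (hC₀ _ hmem)
  have haxes : ∀ b : L, C₀ ∉ b → ∃ g : G, Hom g C₀ b := by
    intro b hb
    by_contra hcon
    push Not at hcon
    obtain ⟨R, hRb, hRl⟩ := exists_point_on (P := P) b l fun e => hb (e ▸ hC₀l)
    have hRC : R ≠ C₀ := fun e => hb (e ▸ hRb)
    -- at most one point of `b` is the centre of a homology with axis `l`
    have hone : ∀ A A' : P, A ∈ b → A' ∈ b → ∀ g g' : G, Hom g A l → Hom g' A' l → A = A' := by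
      intro A A' hA hA' g g' h h'
      by_contra hne
      obtain ⟨h1', htr⟩ := h.prod_same_axis h' hne
      have hA'l : A' ∉ l := h'.not_mem
      obtain ⟨j, hj1, hj2⟩ := exists_line_through (L := L) C₀ A' fun e => hA'l (e ▸ hC₀l)
      have hmv : g • A' ≠ A' := fun e => (h.fix_point e).elim hA'l (Ne.symm hne)
      have h3 : g • A' ∈ j := by
        have := (mem_of_fix_line ((hC₀ _ htr) j hj1)).2 hj2
        rwa [mul_smul, h'.centre.fix] at this
      have h4 : g • A' ∈ b := (mem_of_fix_line (h.centre b hA)).2 hA'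
      exact hb ((line_unique hmv h4 hA' h3 hj2) ▸ hj1)
    -- the other points
    have hother : ∀ A : P, A ∈ b → A ≠ R → (∀ g : G, ¬ Hom g A l) →
        ∃ (g : G) (c : L), Hom g R c ∧ A ∈ c ∧ C₀ ∈ c ∧ g • C₀ = C₀ := by
      intro A hA hAR hna
      have hAl : A ∉ l := fun e => hAR (point_unique (fun e' : b = l => hb (by rw [e']; exact hC₀l)) hA e hRb hRl)
      obtain ⟨g, C, c, h, hl, hcase⟩ := flag_hom hn hinv hflag hAl hRl
      obtain ⟨hC, hcl, hAc, hR⟩ := hcase.resolve_left fun e => hna g (e.1 ▸ e.2 ▸ h)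
      have hf := hinvC g hl
      rcases h.fix_point hf with h0 | h0
      · refine ⟨g, c, ?_, hAc, h0, hf⟩
        rcases hR with hR | hR
        · exact hR ▸ h
        · exact absurd (point_unique hcl hR hRl h0 hC₀l) hRC
      · subst h0
        rcases hR with hR | hR
        · exact absurd hR hRC
        · exact absurd (line_unique hAR.symm hR hAc hRb hA ▸ h) (hcon g)
    obtain ⟨A, hA, hAR, hAna⟩ : ∃ A : P, A ∈ b ∧ A ≠ R ∧ ∀ g : G, ¬ Hom g A l := by
      obtain ⟨A, hA, hAR⟩ := exists_point_ne b R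
      by_cases hAa : ∃ g : G, Hom g A l
      · obtain ⟨g, hg⟩ := hAa
        obtain ⟨B, hB, hBR, hBA⟩ := exists_point_ne₂ b R A
        exact ⟨B, hB, hBR, fun g' hg' => hBA (hone B A hB hA g' g hg' hg)⟩
      · exact ⟨A, hA, hAR, not_exists.1 hAa⟩
    obtain ⟨A', hA', hA'R, hA'A, hA'na⟩ :
        ∃ A' : P, A' ∈ b ∧ A' ≠ R ∧ A' ≠ A ∧ ∀ g : G, ¬ Hom g A' l := by
      obtain ⟨A', hA', hA'R, hA'A⟩ := exists_point_ne₂ b R A
      by_cases hAa : ∃ g : G, Hom g A' l
      · obtain ⟨g, hg⟩ := hAa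
        classical
        have : Fintype P := Fintype.ofFinite P
        obtain ⟨B, hB⟩ : ∃ B, B ∈ (Finset.univ.filter fun p : P => p ∈ b) \ {R, A, A'} := by
          refine Finset.card_pos.1 ?_
          have e : (Finset.univ.filter fun p : P => p ∈ b).card
              = ProjectivePlane.order P L + 1 := by
            rw [← card_on (P := P) b, Nat.card_eq_fintype_card, Fintype.card_subtype]
          have e2 : ({R, A, A'} : Finset P).card ≤ 3 := Finset.card_le_three
          have := Finset.le_card_sdiff ({R, A, A'} : Finset P)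
            (Finset.univ.filter fun p : P => p ∈ b)
          have := two_le_order P L
          obtain ⟨r, hr⟩ := hn
          omega
        simp only [Finset.mem_sdiff, Finset.mem_filter, Finset.mem_univ, true_and,
          Finset.mem_insert, Finset.mem_singleton, not_or] at hB
        exact ⟨B, hB.1, hB.2.1, hB.2.2.1, fun g' hg' => hB.2.2.2 (hone B A' hB.1 hA' g' g hg' hg)⟩
      · exact ⟨A', hA', hA'R, hA'A, not_exists.1 hAa⟩
    obtain ⟨g, c, h, hAc, hCc, hgC⟩ := hother A hA hAR hAna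
    obtain ⟨g', c', h', hA'c, hC'c, hg'C⟩ := hother A' hA' hA'R hA'na
    have hcc : c ≠ c' := fun e =>
      hb ((line_unique hA'A hA'c (e ▸ hAc) hA' hA) ▸ hC'c)
    obtain ⟨hp1, hcen, d, hRd, hd⟩ := h.prod_same_centre h' hcc
    have hC₀d : C₀ ∈ d := (fixed_point (exists_moved hp1) (mem_transl.1 hd).1 hcen
      (by rw [mul_smul, hg'C, hgC])).resolve_right (Ne.symm hRC)
    have hdl : d = l := line_unique hRC hRd hC₀d hRl hC₀l
    exact hRC (centre_unique hp1 hcen (hC₀ _ (hdl ▸ hd)))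
  -- the dual translation group
  have hn' : Odd (ProjectivePlane.order (Configuration.Dual L) (Configuration.Dual P)) := by
    rw [ProjectivePlane.Dual.order]; exact hn
  set E := transl G (Configuration.Dual L) (L := Configuration.Dual P) C₀ with hE
  have ht₀E : t₀ ∈ E := isTrans_of (P := Configuration.Dual L) (L := Configuration.Dual P)
    (hC₀ _ ht₀) (mem_transl.1 ht₀).1 hC₀l
  have htrans : ∀ b b' : L, C₀ ∉ b → C₀ ∉ b' → ∃ t ∈ E, t • b = b' := by
    intro b b' hb hb'
    obtain ⟨g, hg⟩ := haxes b hb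
    obtain ⟨g', hg'⟩ := haxes b' hb'
    exact exists_transl_centre (P := Configuration.Dual L) (L := Configuration.Dual P) hn' hg.dual
      hg'.dual
  have h2 : TwoCentres G (Configuration.Dual L) (L := Configuration.Dual P) C₀ := by
    intro c'
    obtain ⟨c, rfl⟩ : ∃ c : L, (c : Configuration.Dual L) = c' := ⟨c', rfl⟩
    change ∃ t ∈ E, ¬ FixesLine (P := P) (L := L) t c
    by_cases hc : c = l
    · subst hc
      obtain ⟨X, hX⟩ := Nondegenerate.exists_point (P := P) c
      have hXC : X ≠ C₀ := fun e => hX (e ▸ hC₀l)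
      obtain ⟨j, hj1, hj2⟩ := exists_line_through (L := L) X C₀ hXC
      obtain ⟨b, hb1, hbj, -⟩ := exists_line_ne₂ (L := L) X j j
      obtain ⟨b', hb'1, hb'j, hb'b⟩ := exists_line_ne₂ (L := L) X j b
      have hCb : C₀ ∉ b := fun e => hbj (line_unique hXC hb1 e hj1 hj2)
      have hCb' : C₀ ∉ b' := fun e => hb'j (line_unique hXC hb'1 e hj1 hj2)
      obtain ⟨g, hg⟩ := haxes b hCb
      obtain ⟨g', hg'⟩ := haxes b' hCb'
      obtain ⟨hp1, hcen, d, hd1, hd⟩ := hg.prod_same_centre hg' hb'b.symm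
      refine ⟨g * g', isTrans_of (P := Configuration.Dual L) (L := Configuration.Dual P) hcen
        (mem_transl.1 hd).1 hd1, fun hfix => ?_⟩
      obtain rfl : d = c := axis_unique hp1 (mem_transl.1 hd).1 hfix
      rcases fixed_point (exists_moved hp1) (mem_transl.1 hd).1 hcen
        (show (g * g') • X = X by rw [mul_smul, hg'.axis X hb'1, hg.axis X hb1]) with h | h
      · exact hX h
      · exact hXC h
    · exact ⟨t₀, ht₀E, fun hfix => hc (axis_unique h1 hfix (mem_transl.1 ht₀).1)⟩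
  obtain ⟨p, e, hp, hcard⟩ := transl_card_prime_pow h2 ht₀E h1
  refine ⟨p, ?_⟩
  have hsq : Nat.card E = ProjectivePlane.order P L ^ 2 := by
    rw [← ProjectivePlane.Dual.order P L,
      ← card_off (P := Configuration.Dual L) (L := Configuration.Dual P) C₀]
    obtain ⟨b, hb⟩ := exists_line_not_mem (L := L) C₀
    refine Nat.card_congr (Equiv.ofBijective
      (fun t => ⟨(t : G) • b, ?_⟩) ⟨fun s t h => Subtype.ext ?_, fun c => ?_⟩)
    · intro h'
      refine hb ((mem_smul_iff (t : G)).1 ?_)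
      rw [show (t : G) • C₀ = C₀ from (mem_transl.1 t.2).1.fix]
      exact h'
    · exact transl_inj s.2 t.2 (A := (b : Configuration.Dual L)) hb (congrArg Subtype.val h)
    · obtain ⟨t, ht, htb⟩ := htrans b c.1 hb c.2
      exact ⟨⟨t, ht⟩, Subtype.ext htb⟩
  obtain ⟨f, -, hf⟩ := (Nat.dvd_prime_pow hp).1 (show ProjectivePlane.order P L ∣ p ^ e by
    rw [← hcard, hsq]; exact dvd_pow_self _ two_ne_zero)
  exact ⟨f, hp, hf⟩

/-- The order is a prime power. -/
theorem prime_power_of_flags :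
    ∃ p e : ℕ, p.Prime ∧ ProjectivePlane.order P L = p ^ e := by
  classical
  obtain ⟨l, t₀, ht₀, h1⟩ := exists_elation hn hinv hflag
  by_cases h2 : TwoCentres G P l
  swap
  · simp only [TwoCentres, not_forall, not_exists, not_and, not_not] at h2
    obtain ⟨C₀, hC₀⟩ := h2
    exact prime_power_single hn hinv hflag ht₀ h1 hC₀
  obtain ⟨p, e, hp, hM⟩ := transl_card_prime_pow h2 ht₀ h1
  refine ⟨p, ?_⟩
  set n := ProjectivePlane.order P L with hn'
  suffices hdvd : n ∣ Nat.card (transl G P l) by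
    obtain ⟨f, -, hf⟩ := (Nat.dvd_prime_pow hp).1 (hM ▸ hdvd)
    exact ⟨f, hp, hf⟩
  by_cases hall : ∀ A : P, A ∉ l → ∃ g : G, Hom g A l
  · obtain ⟨A, hA⟩ := Nondegenerate.exists_point (P := P) l
    have : Nat.card (transl G P l) = n ^ 2 := by
      rw [hn', ← card_off (P := P) l]
      refine Nat.card_congr (Equiv.ofBijective (fun t => ⟨(t : G) • A, ?_⟩)
        ⟨fun s t h => Subtype.ext ?_, fun B => ?_⟩)
      · intro h'
        exact hA ((mem_of_fix_line (mem_transl.1 t.2).1.fix).1 h')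
      · exact transl_inj s.2 t.2 hA (congrArg Subtype.val h)
      · obtain ⟨g, hg⟩ := hall A hA
        obtain ⟨g', hg'⟩ := hall B.1 B.2
        obtain ⟨t, ht, htA⟩ := exists_transl_centre hn hg hg'
        exact ⟨⟨t, ht⟩, Subtype.ext htA⟩
    exact this ▸ dvd_pow_self _ two_ne_zero
  push Not at hall
  obtain ⟨A, hA, hAna⟩ := hall
  have : Fintype G := Fintype.ofFinite G
  have : Fintype P := Fintype.ofFinite P
  set M := transl G P l with hMdef
  set m : P → ℕ := fun R => Nat.card (M ⊓ cenGrp G L R : Subgroup G) with hm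
  have hle : ∀ R R' : P, R ≠ R' → m R * m R' ≤ Nat.card M := by
    intro R R' hne
    rw [hm, ← Nat.card_prod]
    refine Nat.card_le_card_of_injective (fun x => (⟨x.1.1 * x.2.1, mul_mem x.1.2.1 x.2.2.1⟩ : M)) ?_
    rintro ⟨a, b⟩ ⟨a', b'⟩ h
    have h' : a.1 * b.1 = a'.1 * b'.1 := congrArg Subtype.val h
    have h3 : a'.1⁻¹ * a.1 = b'.1 * b.1⁻¹ := by
      rw [inv_mul_eq_iff_eq_mul, ← mul_assoc, ← h', mul_inv_cancel_right]
    have h4 : a'.1⁻¹ * a.1 = 1 := by
      by_contra h5
      exact hne (centre_unique h5 (HasCentre.mul (HasCentre.inv a'.2.2) a.2.2)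
        (h3 ▸ HasCentre.mul b'.2.2 (HasCentre.inv b.2.2)))
    have ha : a = a' := Subtype.ext (inv_mul_eq_one.1 h4).symm
    subst ha
    exact Prod.ext rfl (Subtype.ext (mul_left_cancel h'))
  -- decomposition along a pair
  have hdec : ∀ (h : G) (C : P) (b : L) (D : P), Hom h C b → C ∈ l → D ∈ l → D ∈ b → h • l = l →
      b ≠ l → m C * m D = Nat.card M := by
    intro h C b D hh hC hD hDb hl hbl
    have hCD : C ≠ D := fun e => hh.not_mem (e ▸ hDb)
    refine le_antisymm (hle C D hCD) ?_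
    rw [hm, ← Nat.card_prod]
    refine Nat.card_le_card_of_surjective
      (fun x => (⟨x.2.1 * x.1.1, mul_mem x.2.2.1 x.1.2.1⟩ : M)) fun t => ?_
    obtain ⟨r, hr⟩ : Odd (orderOf (t : G)) := by
      refine Odd.of_dvd_nat (transl_card_odd (G := G) hn l) ?_
      rw [Subgroup.orderOf_coe]
      exact orderOf_dvd_natCard _
    set s : G := (t : G) ^ (r + 1) with hs
    have hsM : s ∈ M := pow_mem t.2 _
    have hss : s * s = (t : G) := by
      rw [hs, ← pow_add, show r + 1 + (r + 1) = orderOf (t : G) + 1 by omega, pow_succ,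
        pow_orderOf_eq_one, one_mul]
    set s' : G := h * s * h⁻¹ with hs'
    have hs'M : s' ∈ M := by
      have := transl_conj hsM h
      rwa [hl] at this
    have hconj' : h * s' * h⁻¹ = s := by
      rw [hs', show h * (h * s * h⁻¹) * h⁻¹ = h * h * s * (h * h)⁻¹ by group, hh.sq]
      group
    have hcomm : s * s' = s' * s := transl_comm h2 hsM hs'M
    have hX : ∀ (v : G) (X : P), v ∈ M → v ≠ 1 → HasCentre (L := L) v X →
        HasCentre (L := L) (h * v * h⁻¹) X → X = C ∨ X = D := by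
      intro v X hv hv1 hvX hvX'
      have hXl : X ∈ l := (mem_transl.1 hv).centre_mem hv1 hvX
      have hfix : h • X = X :=
        centre_unique (conj_eq_one_iff.not.2 hv1) (hvX.conj h) hvX'
      rcases hh.fix_point hfix with h5 | h5
      · exact Or.inr (point_unique hbl h5 hXl hDb hD)
      · exact Or.inl h5
    have hu : s * s' ∈ M ⊓ cenGrp G L D := by
      refine Subgroup.mem_inf.2 ⟨mul_mem hsM hs'M, ?_⟩
      by_cases hv1 : s * s' = 1
      · rw [hv1]; exact one_mem _
      obtain ⟨X, hXl, hX'⟩ := (mem_transl.1 (mul_mem hsM hs'M)).exists_centre hv1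
      have he : h * (s * s') * h⁻¹ = s * s' := by
        rw [show h * (s * s') * h⁻¹ = h * s * h⁻¹ * (h * s' * h⁻¹) by group, hconj', ← hs', hcomm]
      have hb : (s * s') • b = b := by
        refine axis_unique hh.ne_one ?_ hh.axis
        have := hh.axis.conj (s * s')
        rwa [show s * s' * h * (s * s')⁻¹ = h by
          rw [mul_inv_eq_iff_eq_mul]
          calc s * s' * h = h * (s * s') * h⁻¹ * h := by rw [he]
            _ = h * (s * s') := by group] at this
      have hXb : X ∈ b := (fixed_line (exists_moved (P := P) hv1) (mem_transl.1 (mul_mem hsM hs'M)).1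
        hX' hb).resolve_right hbl
      exact (point_unique hbl hXb hXl hDb hD) ▸ hX'
    have hw : s * s'⁻¹ ∈ M ⊓ cenGrp G L C := by
      refine Subgroup.mem_inf.2 ⟨mul_mem hsM (inv_mem hs'M), ?_⟩
      by_cases hv1 : s * s'⁻¹ = 1
      · rw [hv1]; exact one_mem _
      have hvM := mul_mem hsM (inv_mem hs'M)
      obtain ⟨X, hXl, hX'⟩ := (mem_transl.1 hvM).exists_centre hv1
      have he : h * (s * s'⁻¹) * h⁻¹ = (s * s'⁻¹)⁻¹ := by
        rw [show h * (s * s'⁻¹) * h⁻¹ = h * s * h⁻¹ * (h * s' * h⁻¹)⁻¹ by group, hconj', ← hs']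
        group
      rcases hX _ X hvM hv1 hX' (he ▸ hX'.inv) with h5 | h5
      · exact h5 ▸ hX'
      exfalso
      subst h5
      obtain ⟨B, hB, hBX⟩ := exists_point_ne b X
      have hBl : B ∉ l := fun e => hBX (point_unique hbl hB e hDb hD)
      set w := s * s'⁻¹
      have hwB : w • B ∈ b := (mem_of_fix_line (hX' b hDb)).2 hB
      have e1 : w • B = w⁻¹ • B := by
        conv_rhs => rw [← he, mul_smul, mul_smul, inv_smul_eq_iff.2 (hh.axis B hB).symm,
          hh.axis _ hwB]
      have e2 : (w * w) • B = B := by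
        rw [mul_smul]
        conv_lhs => rw [e1]
        exact smul_inv_smul w B
      exact hv1 (transl_no_invol hn ((mem_transl.1 (mul_mem hvM hvM)).2 B hBl e2) hvM)
    refine ⟨(⟨_, hw⟩, ⟨_, hu⟩), Subtype.ext ?_⟩
    change s * s' * (s * s'⁻¹) = (t : G)
    rw [← hss, hcomm, mul_assoc s' s, ← mul_assoc s s, ← mul_assoc s',
      show s' * (s * s) = (s * s) * s' from
        ((show Commute s' s from transl_comm h2 hs'M hsM).mul_right
          (transl_comm h2 hs'M hsM)).eq,
      mul_inv_cancel_right]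
  have hpair : ∀ R : P, R ∈ l → ∃ X : P, X ∈ l ∧ X ≠ R ∧ m R * m X = Nat.card M := by
    intro R hR
    obtain ⟨g, C, b, hh, hl, hcase⟩ := flag_hom hn hinv hflag hA hR
    obtain ⟨hC, hbl, hAb, hR'⟩ := hcase.resolve_left fun e => hAna g (e.1 ▸ e.2 ▸ hh)
    obtain ⟨D, hDb, hD⟩ := exists_point_on (P := P) b l hbl
    have hCD : C ≠ D := fun e => hh.not_mem (e ▸ hDb)
    rcases hR' with rfl | hR'
    · exact ⟨D, hD, hCD.symm, hdec g R b D hh hC hD hDb hl hbl⟩
    · obtain rfl := point_unique hbl hR' hR hDb hD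
      exact ⟨C, hC, hCD, by rw [mul_comm]; exact hdec g C b R hh hC hR hR' hl hbl⟩
  set T := Finset.univ.filter fun R : P => R ∈ l with hT
  have hTcard : T.card = n + 1 := by
    rw [hn', ← card_on (P := P) l, Nat.card_eq_fintype_card, Fintype.card_subtype]
  obtain ⟨C, hCT, hCmax⟩ := Finset.exists_max_image T m (Finset.card_pos.1 (by omega))
  have hC : C ∈ l := (Finset.mem_filter.1 hCT).2
  obtain ⟨D, hD, hDC, hCD⟩ := hpair C hC
  have hpos : ∀ R, 0 < m R := fun R => Nat.card_pos
  have hc : ∀ R ∈ T.erase C, m R = m D := by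
    intro R hR
    obtain ⟨hRC, hR'⟩ := Finset.mem_erase.1 hR
    have hRl : R ∈ l := (Finset.mem_filter.1 hR').2
    obtain ⟨X, hX, hXR, hRX⟩ := hpair R hRl
    refine le_antisymm ?_ ?_
    · refine Nat.le_of_mul_le_mul_left ?_ (hpos C)
      rw [hCD]
      exact hle C R hRC.symm
    · refine Nat.le_of_mul_le_mul_right ?_ (hpos C)
      calc m D * m C = Nat.card M := by rw [mul_comm, hCD]
        _ = m R * m X := hRX.symm
        _ ≤ m R * m C := Nat.mul_le_mul_left _ (hCmax X (Finset.mem_filter.2 ⟨Finset.mem_univ _, hX⟩))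
  have hcount : Nat.card M - 1 = ∑ R ∈ T, (m R - 1) := by
    have hex : ∀ t ∈ (Finset.univ.filter fun t : G => t ∈ M).erase 1, ∃ R ∈ T,
        HasCentre (L := L) t R := by
      intro t ht
      obtain ⟨ht1, htM⟩ := Finset.mem_erase.1 ht
      obtain ⟨R, hR, hR'⟩ := (mem_transl.1 (Finset.mem_filter.1 htM).2).exists_centre ht1
      exact ⟨R, by simp [hT, hR], hR'⟩
    haveI : Nonempty P := ⟨C⟩
    choose! f hfT hf using hex
    have h := Finset.card_eq_sum_card_fiberwise (f := f)
      (s := (Finset.univ.filter fun t : G => t ∈ M).erase 1) (t := T) hfT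
    have ecard : ∀ H : Subgroup G, ((Finset.univ.filter fun t : G => t ∈ H).erase 1).card
        = Nat.card H - 1 := fun H => by
      rw [Finset.card_erase_of_mem (by simp [one_mem]), Nat.card_eq_fintype_card,
        Fintype.card_subtype]
    rw [ecard] at h
    rw [h]
    refine Finset.sum_congr rfl fun R hR => ?_
    rw [hm]
    simp only
    rw [← ecard]
    congr 1
    ext t
    simp only [Finset.mem_filter, Finset.mem_erase, Finset.mem_univ, true_and, Subgroup.mem_inf]
    constructor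
    · rintro ⟨⟨ht1, htM⟩, rfl⟩
      exact ⟨ht1, htM, hf t (by simp [ht1, htM])⟩
    · rintro ⟨ht1, htM, htR⟩
      exact ⟨⟨ht1, htM⟩, centre_unique ht1 (hf t (by simp [ht1, htM])) htR⟩
  rw [← Finset.add_sum_erase T _ hCT, Finset.sum_congr rfl fun R hR => by rw [hc R hR],
    Finset.sum_const, Finset.card_erase_of_mem hCT, hTcard, Nat.add_sub_cancel, smul_eq_mul] at hcount
  have hD1 : 2 ≤ m D := by
    by_contra hcon
    have hD' : m D = 1 := by have := hpos D; omega
    obtain ⟨t, ht, htC⟩ := h2 C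
    rw [hD', mul_one] at hCD
    have heq : M ⊓ cenGrp G L C = M := Subgroup.eq_of_le_of_card_ge inf_le_left hCD.ge
    exact htC (Subgroup.mem_inf.1 (heq.symm ▸ ht : t ∈ M ⊓ cenGrp G L C)).2
  have hkC : n = m C := by
    obtain ⟨c, hc'⟩ : ∃ c, m D = c + 2 := ⟨m D - 2, by omega⟩
    obtain ⟨b, hb'⟩ : ∃ b, m C = b + 1 := ⟨m C - 1, by have := hpos C; omega⟩
    rw [hc', hb'] at hCD
    rw [← hCD, hc', hb', Nat.add_sub_cancel, show c + 2 - 1 = c + 1 by omega,
      show (b + 1) * (c + 2) - 1 = b + (b + 1) * (c + 1) by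
        rw [Nat.sub_eq_iff_eq_add (Nat.succ_le_of_lt (by positivity))]; ring] at hcount
    rw [hb']
    exact Nat.eq_of_mul_eq_mul_right (show 0 < c + 1 by omega) (by omega)
  rw [hkC]
  exact Subgroup.card_dvd_of_le inf_le_left

end Cfsg.Agent.OstromWagner
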