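import Cfsg.Agent.OstromWagner.Plane

/-!
# Fixed subplanes

The fixed points and lines of a subgroup fixing a quadrangle form a plane, acted on by the
normalizer. For a 2-group its order `k` satisfies `n = k ^ (2 ^ i)` (Baer).
-/

set_option autoImplicit false
set_option linter.style.haveILetI false
set_option linter.unusedVariables false

namespace Cfsg.Agent.OstromWagner

open Configuration MulAction

/-- The fixed elements of a subgroup. -/
abbrev Fix {G : Type*} [Group G] (U : Subgroup G) (α : Type*) [MulAction G α] :=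
  {x : α // ∀ u ∈ U, u • x = x}

/-- The fixed set of a subgroup. -/
def fixSet {G : Type*} [Group G] (U : Subgroup G) (α : Type*) [MulAction G α] : Set α :=
  {x : α | ∀ u ∈ U, u • x = x}

instance fixMem {G P L : Type*} [Group G] [MulAction G P] [MulAction G L] [Membership P L]
    (U : Subgroup G) : Membership (Fix U P) (Fix U L) :=
  ⟨fun l p => p.1 ∈ l.1⟩

theorem fix_mem_iff {G P L : Type*} [Group G] [MulAction G P] [MulAction G L] [Membership P L]
    {U : Subgroup G} {p : Fix U P} {l : Fix U L} : p ∈ l ↔ p.1 ∈ l.1 := Iff.rfl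

theorem normalizer_smul_fix {G : Type*} [Group G] {U : Subgroup G} {α : Type*} [MulAction G α]
    {g : G} (hg : g ∈ Subgroup.normalizer (U : Set G)) {x : α} (hx : ∀ u ∈ U, u • x = x) :
    ∀ u ∈ U, u • g • x = g • x := by
  intro u hu
  have h : g⁻¹ * u * g ∈ U := (Subgroup.mem_normalizer_iff.1 hg _).2 (by simpa [mul_assoc] using hu)
  calc u • g • x = g • (g⁻¹ * u * g) • x := by simp [mul_smul]
    _ = g • x := by rw [hx _ h]

instance fixAction {G : Type*} [Group G] (U : Subgroup G) (α : Type*) [MulAction G α] :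
    MulAction (Subgroup.normalizer (U : Set G)) (Fix U α) where
  smul g x := ⟨(g : G) • x.1, normalizer_smul_fix g.2 x.2⟩
  one_smul x := Subtype.ext (one_smul G x.1)
  mul_smul g h x := Subtype.ext (mul_smul (g : G) (h : G) x.1)

theorem fix_smul_val {G : Type*} [Group G] {U : Subgroup G} {α : Type*} [MulAction G α]
    (g : Subgroup.normalizer (U : Set G)) (x : Fix U α) : (g • x).1 = (g : G) • x.1 := rfl

set_option linter.unusedSectionVars false

variable {G P L : Type*} [Group G] [MulAction G P] [MulAction G L] [Membership P L]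
  [ProjectivePlane P L] [Finite P] [Finite L] [PlaneAut G P L]

instance fixAut (U : Subgroup G) :
    PlaneAut (Subgroup.normalizer (U : Set G)) (Fix U P) (Fix U L) :=
  ⟨fun g p l => mem_smul_iff (g : G) (p := p.1) (l := l.1)⟩

/-- The fixed plane. -/
@[instance_reducible]
noncomputable def subPlane (U : Subgroup G) (hq : HasQuad (L := L) (fixSet U P)) :
    ProjectivePlane (Fix U P) (Fix U L) where
  mkPoint {l₁ l₂} h := ⟨Classical.choose (exists_point_on (P := P) l₁.1 l₂.1 fun e => h (Subtype.ext e)),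
    fun u hu => by
      have hs := Classical.choose_spec
        (exists_point_on (P := P) l₁.1 l₂.1 fun e => h (Subtype.ext e))
      exact point_fixed (l₁.2 u hu) (l₂.2 u hu) (fun e => h (Subtype.ext e)) hs.1 hs.2⟩
  mkPoint_ax {l₁ l₂} h :=
    Classical.choose_spec (exists_point_on (P := P) l₁.1 l₂.1 fun e => h (Subtype.ext e))
  mkLine {p₁ p₂} h := ⟨Classical.choose (exists_line_through (L := L) p₁.1 p₂.1 fun e => h (Subtype.ext e)),
    fun u hu => by
      have hs := Classical.choose_spec
        (exists_line_through (L := L) p₁.1 p₂.1 fun e => h (Subtype.ext e))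
      exact line_fixed (p₁.2 u hu) (p₂.2 u hu) (fun e => h (Subtype.ext e)) hs.1 hs.2⟩
  mkLine_ax {p₁ p₂} h :=
    Classical.choose_spec (exists_line_through (L := L) p₁.1 p₂.1 fun e => h (Subtype.ext e))
  exists_point l := by
    obtain ⟨a, b, c, d, ha, hb, hc, hd, ⟨hab, habc⟩, h2, h3, h4⟩ := hq
    by_contra hcon
    push Not at hcon
    exact habc l.1 (hcon ⟨a, ha⟩) (hcon ⟨b, hb⟩) (hcon ⟨c, hc⟩)
  exists_line p := by
    obtain ⟨a, b, c, d, ha, hb, hc, hd, ⟨hab, habc⟩, h2, ⟨hac, hacd⟩, ⟨hbc, hbcd⟩⟩ := hq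
    by_contra hcon
    push Not at hcon
    obtain ⟨j, hj1, hj2⟩ := exists_line_through (L := L) a b hab
    obtain ⟨i, hi1, hi2⟩ := exists_line_through (L := L) a c hac
    obtain ⟨i', hi'1, hi'2⟩ := exists_line_through (L := L) b c hbc
    have h1 := hcon ⟨j, fun u hu => line_fixed (ha u hu) (hb u hu) hab hj1 hj2⟩
    have h1' := hcon ⟨i, fun u hu => line_fixed (ha u hu) (hc u hu) hac hi1 hi2⟩
    have h1'' := hcon ⟨i', fun u hu => line_fixed (hb u hu) (hc u hu) hbc hi'1 hi'2⟩
    have hji : j ≠ i := fun e => habc j hj1 hj2 (e ▸ hi2)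
    have hpa : p.1 = a := point_unique hji h1 h1' hj1 hi1
    have h5 : a ∈ i' := hpa ▸ h1''
    exact habc i' h5 hi'1 hi'2
  eq_or_eq {p₁ p₂ l₁ l₂} h1 h2 h3 h4 :=
    (Nondegenerate.eq_or_eq (P := P) (L := L) h1 h2 h3 h4).imp Subtype.ext Subtype.ext
  exists_config := by
    obtain ⟨a, b, c, d, ha, hb, hc, hd, ⟨hab, habc⟩, ⟨-, habd⟩, ⟨hac, hacd⟩, ⟨-, hbcd⟩⟩ := hq
    have hcd : c ≠ d := fun e => by
      obtain ⟨i, hi1, hi2⟩ := exists_line_through (L := L) a c hac
      exact hacd i hi1 hi2 (e ▸ hi2)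
    obtain ⟨l₁, h11, h12⟩ := exists_line_through (L := L) c d hcd
    obtain ⟨l₂, h21, h22⟩ := exists_line_through (L := L) a b hab
    obtain ⟨l₃, h31, h32⟩ := exists_line_through (L := L) a c hac
    exact ⟨⟨d, hd⟩, ⟨a, ha⟩, ⟨b, hb⟩,
      ⟨l₁, fun u hu => line_fixed (hc u hu) (hd u hu) hcd h11 h12⟩,
      ⟨l₂, fun u hu => line_fixed (ha u hu) (hb u hu) hab h21 h22⟩,
      ⟨l₃, fun u hu => line_fixed (ha u hu) (hc u hu) hac h31 h32⟩,
      fun h => habd l₂ h21 h22 h, fun h => hacd l₃ h31 h32 h, fun h => hacd l₁ h h11 h12,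
      h21, h31, fun h => hbcd l₁ h h11 h12, h22, fun h => habc l₃ h31 h h32⟩

variable (P L) in
/-- The order of the fixed plane. -/
noncomputable def subOrder (U : Subgroup G) (hq : HasQuad (L := L) (fixSet U P)) : ℕ :=
  @ProjectivePlane.order (Fix U P) (Fix U L) _ (subPlane U hq)

theorem card_fix_points (U : Subgroup G) (hq : HasQuad (L := L) (fixSet U P)) :
    Nat.card (Fix U P) = subOrder P L U hq ^ 2 + subOrder P L U hq + 1 :=
  letI := subPlane U hq
  natCard_points (Fix U P) (Fix U L)

theorem two_le_subOrder (U : Subgroup G) (hq : HasQuad (L := L) (fixSet U P)) :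
    2 ≤ subOrder P L U hq :=
  letI := subPlane U hq
  two_le_order (Fix U P) (Fix U L)

theorem card_fix_on (U : Subgroup G) (hq : HasQuad (L := L) (fixSet U P)) {l : L}
    (hl : ∀ u ∈ U, u • l = l) :
    Nat.card {p : P // p ∈ l ∧ ∀ u ∈ U, u • p = p} = subOrder P L U hq + 1 := by
  letI := subPlane U hq
  refine Eq.trans ?_ (card_on (P := Fix U P) (⟨l, hl⟩ : Fix U L))
  exact Nat.card_congr
    { toFun := fun p => ⟨⟨p.1, p.2.2⟩, p.2.1⟩
      invFun := fun p => ⟨p.1.1, p.2, p.1.2⟩
      left_inv := fun p => rfl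
      right_inv := fun p => rfl }

theorem exists_fixed_line (U : Subgroup G) (hq : HasQuad (L := L) (fixSet U P)) :
    ∃ l : L, ∀ u ∈ U, u • l = l := by
  obtain ⟨a, b, c, d, ha, hb, -, -, ⟨hab, -⟩, -⟩ := hq
  obtain ⟨j, hj1, hj2⟩ := exists_line_through (L := L) a b hab
  exact ⟨j, fun u hu => line_fixed (ha u hu) (hb u hu) hab hj1 hj2⟩

theorem subOrder_eq_of {U : Subgroup G} (hq : HasQuad (L := L) (fixSet U P)) {k : ℕ} {l : L}
    (hl : ∀ u ∈ U, u • l = l)
    (h : Nat.card {p : P // p ∈ l ∧ ∀ u ∈ U, u • p = p} = k + 1) : subOrder P L U hq = k := by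
  rw [card_fix_on U hq hl] at h
  omega

theorem fix_zpowers {g : G} {α : Type*} [MulAction G α] {x : α} (hx : g • x = x) :
    ∀ u ∈ Subgroup.zpowers g, u • x = x := fun u hu => by
  have : Subgroup.zpowers g ≤ MulAction.stabilizer G x := Subgroup.zpowers_le.2 hx
  exact this hu

/-- **Baer**: an involution fixing a quadrangle halves the exponent. -/
theorem baer {g : G} (hg : ∀ p : P, g • g • p = p) (hnt : ∃ q : P, g • q ≠ q)
    (hq : HasQuad (L := L) (fixSet (Subgroup.zpowers g) P)) :
    ProjectivePlane.order P L = subOrder P L (Subgroup.zpowers g) hq ^ 2 := by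
  classical
  have : Fintype P := Fintype.ofFinite P
  have : Fintype L := Fintype.ofFinite L
  set U := Subgroup.zpowers g
  set k := subOrder P L U hq
  set n := ProjectivePlane.order P L
  letI := subPlane U hq
  have hmem : g ∈ U := Subgroup.mem_zpowers g
  have hfixU : ∀ p : P, (∀ u ∈ U, u • p = p) ↔ g • p = p :=
    fun p => ⟨fun h => h g hmem, fun h => fix_zpowers h⟩
  -- every moved point lies on exactly one fixed line
  set A := Finset.univ.filter fun p : P => g • p ≠ p with hA
  set B := Finset.univ.filter fun l : L => g • l = l with hB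
  have hone : ∀ p ∈ A, (B.bipartiteAbove (fun p l => p ∈ l) p).card = 1 := by
    intro p hp
    simp only [hA, Finset.mem_filter, Finset.mem_univ, true_and] at hp
    obtain ⟨l, hl, hlf⟩ := exists_fixed_through (L := L) hg p
    rw [Finset.card_eq_one]
    refine ⟨l, ?_⟩
    ext m
    simp only [Finset.bipartiteAbove, hB, Finset.mem_filter, Finset.mem_univ, true_and,
      Finset.mem_singleton]
    exact ⟨fun h => by_contra fun hne => hp (point_fixed h.1 hlf hne h.2 hl), fun h => h ▸ ⟨hlf, hl⟩⟩
  have hline : ∀ l ∈ B, (A.bipartiteBelow (fun p l => p ∈ l) l).card = n - k := by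
    intro l hl
    simp only [hB, Finset.mem_filter, Finset.mem_univ, true_and] at hl
    have hfix := card_fix_on U hq (fix_zpowers hl)
    have hall := card_on (P := P) l
    rw [Nat.card_eq_fintype_card, Fintype.card_subtype] at hfix hall
    have hsplit := Finset.card_filter_add_card_filter_not
      (s := Finset.univ.filter fun p : P => p ∈ l) (fun p => g • p = p)
    rw [Finset.filter_filter, Finset.filter_filter, hall] at hsplit
    have e1 : (Finset.univ.filter fun p : P => p ∈ l ∧ g • p = p).card = k + 1 := by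
      rw [← hfix]
      congr 1
      ext p
      simp [hfixU]
    rw [e1] at hsplit
    rw [show A.bipartiteBelow (fun p l => p ∈ l) l
        = Finset.univ.filter (fun p : P => p ∈ l ∧ ¬ g • p = p) by
      ext p; simp [Finset.bipartiteBelow, hA, and_comm]]
    omega
  have h := Finset.sum_card_bipartiteAbove_eq_sum_card_bipartiteBelow
    (r := fun (p : P) (l : L) => p ∈ l) (s := A) (t := B)
  rw [Finset.sum_const_nat hone, Finset.sum_const_nat hline, mul_one] at h
  have hBcard : B.card = k ^ 2 + k + 1 := by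
    refine Eq.trans ?_ (natCard_lines (Fix U P) (Fix U L))
    rw [← Nat.card_eq_finsetCard]
    exact Nat.card_congr
      { toFun := fun l => ⟨l.1, fix_zpowers (Finset.mem_filter.1 l.2).2⟩
        invFun := fun l => ⟨l.1, Finset.mem_filter.2 ⟨Finset.mem_univ _, l.2 g hmem⟩⟩
        left_inv := fun l => rfl
        right_inv := fun l => rfl }
  have hAcard : A.card + (k ^ 2 + k + 1) = n ^ 2 + n + 1 := by
    have e := Finset.card_filter_add_card_filter_not (s := (Finset.univ : Finset P))
      (fun p => g • p = p)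
    rw [Finset.card_univ, ← Nat.card_eq_fintype_card, natCard_points P L, add_comm] at e
    have e2 : (Finset.univ.filter fun p : P => g • p = p).card = k ^ 2 + k + 1 := by
      rw [← card_fix_points U hq, ← Nat.card_eq_finsetCard]
      exact Nat.card_congr
        { toFun := fun l => ⟨l.1, fix_zpowers (Finset.mem_filter.1 l.2).2⟩
          invFun := fun l => ⟨l.1, Finset.mem_filter.2 ⟨Finset.mem_univ _, l.2 g hmem⟩⟩
          left_inv := fun l => rfl
          right_inv := fun l => rfl }
    rw [e2] at e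
    exact e
  have hApos : 0 < A.card := by
    obtain ⟨q, hq'⟩ := hnt
    exact Finset.card_pos.2 ⟨q, by simp [hA, hq']⟩
  rw [hBcard] at h
  have hkn : k < n := by
    by_contra hcon
    rw [Nat.sub_eq_zero_of_le (not_lt.1 hcon), mul_zero] at h
    omega
  zify [hkn.le] at h hAcard hkn
  have : ((n : ℤ) - k) * ((n : ℤ) - (k : ℤ) ^ 2) = 0 := by linear_combination h - hAcard
  rcases mul_eq_zero.1 this with h0 | h0
  · omega
  · exact_mod_cast sub_eq_zero.1 h0

theorem subOrder_bot (hq : HasQuad (L := L) (fixSet (⊥ : Subgroup G) P)) :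
    subOrder P L (⊥ : Subgroup G) hq = ProjectivePlane.order P L := by
  obtain ⟨l, hl⟩ := exists_fixed_line _ hq
  refine subOrder_eq_of hq hl ?_
  rw [← card_on (P := P) l]
  exact Nat.card_congr (Equiv.subtypeEquivRight fun p => by simp)

/-- The order of the plane fixed by a 2-group. -/
theorem two_group_order [Finite G] :
    ∀ (U : Subgroup G), IsPGroup 2 U → ∀ hq : HasQuad (L := L) (fixSet U P),
      ∃ i, ProjectivePlane.order P L = subOrder P L U hq ^ (2 ^ i) := by
  intro U
  induction h : Nat.card U using Nat.strong_induction_on generalizing U with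
  | _ c ih =>
  intro hU hq
  subst h
  by_cases hU1 : U = ⊥
  · subst hU1
    exact ⟨0, by rw [subOrder_bot hq, pow_zero, pow_one]⟩
  haveI := Fact.mk Nat.prime_two
  obtain ⟨e, he⟩ := hU.exists_card_eq
  obtain ⟨e, rfl⟩ : ∃ e', e = e' + 1 := by
    cases e with
    | zero => exact absurd (Subgroup.card_eq_one.1 (by rw [he, pow_zero])) hU1
    | succ e => exact ⟨e, rfl⟩
  obtain ⟨V', hV'⟩ := Sylow.exists_subgroup_card_pow_prime 2 (G := U) (n := e)
    (by rw [he]; exact Dvd.intro 2 (by ring))
  have hidx : V'.index = 2 := by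
    have := Subgroup.card_mul_index V'
    rw [hV', he, pow_succ] at this
    exact Nat.eq_of_mul_eq_mul_left (by positivity) this
  have hnormal := Subgroup.normal_of_index_eq_two hidx
  set V := V'.map U.subtype
  have hVU : V ≤ U := Subgroup.map_subtype_le V'
  have hVq : HasQuad (L := L) (fixSet V P) := hq.mono fun p hp u hu => hp u (hVU hu)
  have hVcard : Nat.card V = 2 ^ e := by
    rw [Subgroup.card_map_of_injective Subtype.coe_injective, hV']
  obtain ⟨i, hi⟩ := ih (Nat.card V) (by rw [hVcard, he]; exact Nat.pow_lt_pow_right one_lt_two (by omega))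
    V rfl (hU.to_le hVU) hVq
  obtain ⟨x', hx'⟩ : ∃ x' : U, x' ∉ V' := by
    by_contra hcon
    push Not at hcon
    rw [(Subgroup.eq_top_iff' V').2 hcon, Subgroup.index_top] at hidx
    omega
  have hsplit : ∀ u ∈ U, u ∈ V ∨ u * (x' : G) ∈ V := by
    intro u hu
    by_cases huV : (⟨u, hu⟩ : U) ∈ V'
    · exact Or.inl ⟨_, huV, rfl⟩
    · exact Or.inr ⟨⟨u, hu⟩ * x', (Subgroup.mul_mem_iff_of_index_two hidx).2 (iff_of_false huV hx'),
        rfl⟩
  have hxN : (x' : G) ∈ Subgroup.normalizer (V : Set G) := by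
    rw [Subgroup.mem_normalizer_iff]
    intro v
    constructor
    · rintro ⟨v', hv', rfl⟩
      exact ⟨x' * v' * x'⁻¹, hnormal.conj_mem v' hv' x', rfl⟩
    · rintro ⟨w, hw, hwv⟩
      refine ⟨x'⁻¹ * w * x', by simpa using hnormal.conj_mem w hw x'⁻¹, ?_⟩
      simp only [Subgroup.coe_subtype] at hwv ⊢
      push_cast
      rw [hwv]
      group
  have hfixU : ∀ {α : Type _} [MulAction G α] {p : α}, (∀ v ∈ V, v • p = p) → (x' : G) • p = p →
      ∀ u ∈ U, u • p = p := by
    intro α _ p hV hx u hu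
    rcases hsplit u hu with h | h
    · exact hV u h
    · conv_lhs => rw [← hx, ← mul_smul]
      exact hV _ h
  obtain ⟨l, hl⟩ := exists_fixed_line U hq
  letI := subPlane V hVq
  set g : Subgroup.normalizer (V : Set G) := ⟨x', hxN⟩
  have hgg : ∀ p : Fix V P, g • g • p = p := fun p => Subtype.ext (by
    rw [fix_smul_val, fix_smul_val, ← mul_smul]
    exact p.2 _ ⟨x' * x', Subgroup.mul_self_mem_of_index_two hidx x', rfl⟩)
  by_cases hnt : ∃ p : Fix V P, g • p ≠ p
  · have hgq : HasQuad (L := Fix V L) (fixSet (Subgroup.zpowers g) (Fix V P)) := by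
      obtain ⟨a, b, c, d, ha, hb, hc, hd, h1, h2, h3, h4⟩ := hq
      have hin : ∀ (p : P) (hp : p ∈ fixSet U P),
          (⟨p, fun v hv => hp v (hVU hv)⟩ : Fix V P) ∈ fixSet (Subgroup.zpowers g) (Fix V P) :=
        fun p hp => fix_zpowers (Subtype.ext (hp x' x'.2))
      have hgen : ∀ {p q r : P} (hp : p ∈ fixSet U P) (hq : q ∈ fixSet U P) (hr : r ∈ fixSet U P),
          Gen3 (L := L) p q r → Gen3 (L := Fix V L) (⟨p, fun v hv => hp v (hVU hv)⟩ : Fix V P)
            ⟨q, fun v hv => hq v (hVU hv)⟩ ⟨r, fun v hv => hr v (hVU hv)⟩ :=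
        fun hp hq hr h => ⟨fun e => h.1 (congrArg Subtype.val e),
          fun m hm1 hm2 hm3 => h.2 m.1 hm1 hm2 hm3⟩
      exact ⟨_, _, _, _, hin a ha, hin b hb, hin c hc, hin d hd, hgen ha hb hc h1,
        hgen ha hb hd h2, hgen ha hc hd h3, hgen hb hc hd h4⟩
    refine ⟨i + 1, ?_⟩
    have hb := baer hgg hnt hgq
    rw [hi, show subOrder P L V hVq = ProjectivePlane.order (Fix V P) (Fix V L) from rfl, hb,
      ← pow_mul, ← pow_succ']
    congr 1
    refine subOrder_eq_of hgq (l := (⟨l, fun v hv => hl v (hVU hv)⟩ : Fix V L))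
      (fix_zpowers (Subtype.ext (hl x' x'.2))) ?_
    rw [← card_fix_on U hq hl]
    exact Nat.card_congr
      { toFun := fun p => ⟨p.1.1, p.2.1, hfixU p.1.2
          (congrArg Subtype.val (p.2.2 g (Subgroup.mem_zpowers g)))⟩
        invFun := fun p => ⟨⟨p.1, fun v hv => p.2.2 v (hVU hv)⟩, p.2.1,
          fix_zpowers (Subtype.ext (p.2.2 x' x'.2))⟩
        left_inv := fun p => rfl
        right_inv := fun p => rfl }
  · push Not at hnt
    refine ⟨i, ?_⟩
    rw [hi]
    congr 1
    refine (subOrder_eq_of hq hl ?_).symm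
    rw [← card_fix_on V hVq fun v hv => hl v (hVU hv)]
    exact Nat.card_congr (Equiv.subtypeEquivRight fun p =>
      ⟨fun h => ⟨h.1, fun v hv => h.2 v (hVU hv)⟩,
        fun h => ⟨h.1, hfixU h.2 (congrArg Subtype.val (hnt ⟨p, h.2⟩))⟩⟩)

end Cfsg.Agent.OstromWagner
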