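import Cfsg.Agent.OstromWagner.Transitive
import Cfsg.Agent.OstromWagner.Sub

/-!
# Even order

A 2-transitive plane of even order has a perspectivity.
-/

set_option autoImplicit false
set_option linter.style.haveILetI false
set_option linter.unusedVariables false
set_option linter.unusedSectionVars false

namespace Cfsg.Agent.OstromWagner

open Configuration MulAction

/-- An invariant set is divided by every common divisor of its orbit lengths. -/
theorem dvd_card_of_orbit_dvd {G α : Type*} [Group G] [MulAction G α] [Finite α] (U : Subgroup G)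
    (s : Set α) (hs : ∀ u ∈ U, ∀ x ∈ s, u • x ∈ s) (m : ℕ)
    (hm : ∀ x ∈ s, m ∣ Nat.card (MulAction.orbit U x)) : m ∣ Nat.card s := by
  classical
  have : Fintype α := Fintype.ofFinite α
  rw [Nat.card_coe_set_eq, Set.ncard_eq_toFinset_card',
    Finset.card_eq_sum_card_image (fun x => MulAction.orbit U x) s.toFinset]
  refine Finset.dvd_sum fun O hO => ?_
  obtain ⟨x, hx, rfl⟩ := Finset.mem_image.1 hO
  rw [Set.mem_toFinset] at hx
  refine (hm x hx).trans (dvd_of_eq ?_)
  rw [Nat.card_coe_set_eq, ← Set.ncard_coe_finset]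
  congr 1
  ext y
  simp only [Finset.coe_filter, Set.mem_ofPred_eq, Set.mem_toFinset]
  constructor
  · rintro ⟨u, rfl⟩
    exact ⟨hs u u.2 x hx, MulAction.orbit_eq_iff.2 ⟨u, rfl⟩⟩
  · rintro ⟨_, h⟩
    exact MulAction.orbit_eq_iff.1 h

variable {G P L : Type*} [Group G] [MulAction G P] [MulAction G L] [Membership P L]
  [ProjectivePlane P L] [Finite P] [Finite L] [PlaneAut G P L] [FaithfulSMul G P] [Finite G]

theorem not_even_of_no_axis (h2 : TwoTr G P)
    (hper : ∀ (g : G) (c : L), FixesLine (P := P) g c → g = 1) :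
    Odd (ProjectivePlane.order P L) := by
  classical
  by_contra hodd
  rw [Nat.not_odd_iff_even] at hodd
  haveI := Fact.mk Nat.prime_two
  set n := ProjectivePlane.order P L with hn
  obtain ⟨g₀, hg₀, hg₀2⟩ := exists_involution (L := L) h2
  obtain ⟨S, hS, -⟩ := exists_sylIn (p := 2) (H := (⊤ : Subgroup G)) (Q := ⊥) bot_le
    IsPGroup.of_bot
  haveI : Nontrivial S := Finite.one_lt_card_iff_nontrivial.1 (by
    rw [hS.card, Subgroup.card_top]
    refine Nat.one_lt_two_pow (Nat.Prime.factorization_pos_of_dvd Nat.prime_two Nat.card_pos.ne' ?_).ne'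
    have : orderOf g₀ = 2 := orderOf_eq_prime (by rw [pow_two, hg₀2]) hg₀
    exact this ▸ orderOf_dvd_natCard g₀)
  -- a fixed point
  obtain ⟨⟨P₀, hP₀⟩⟩ : Nonempty (MulAction.fixedPoints S P) := by
    have h := hS.isPGroup.card_modEq_card_fixedPoints P
    by_contra hcon
    rw [not_nonempty_iff] at hcon
    rw [Nat.card_eq_zero.2 (Or.inl hcon), natCard_points P L, Nat.modEq_zero_iff_dvd] at h
    obtain ⟨r, hr⟩ := hodd
    rw [← hn, hr, show (r + r) ^ 2 + (r + r) + 1 = 2 * (2 * r ^ 2 + r) + 1 by ring] at h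
    omega
  have hSP : ∀ s ∈ S, s • P₀ = P₀ := fun s hs => hP₀ ⟨s, hs⟩
  set H := MulAction.stabilizer G P₀
  have hSH : SylIn 2 H S := by
    refine SylIn.of_card_le hSP hS.isPGroup ?_
    rw [hS.card, Subgroup.card_top]
    refine Nat.pow_le_pow_right two_pos ?_
    exact (Nat.factorization_le_iff_dvd Nat.card_pos.ne' Nat.card_pos.ne').2
      (Subgroup.card_subgroup_dvd_card H) 2
  -- a central involution
  haveI : Nontrivial (Subgroup.center S) := hS.isPGroup.center_nontrivial
  obtain ⟨j, hj⟩ := exists_prime_orderOf_dvd_card' (G := Subgroup.center S) 2 (by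
    obtain ⟨k, hk⟩ := (hS.isPGroup.to_subgroup (Subgroup.center S)).exists_card_eq
    have := Finite.one_lt_card (α := Subgroup.center S)
    rcases k with _ | k
    · omega
    · exact hk ▸ dvd_pow_self 2 (Nat.succ_ne_zero k))
  set g : G := ((j : S) : G) with hgdef
  have hg2 : g * g = 1 := by
    have h : j * j = 1 := by rw [← pow_two, ← hj, pow_orderOf_eq_one]
    exact congrArg (fun x : Subgroup.center S => ((x : S) : G)) h
  have hg1 : g ≠ 1 := fun e => by
    have hj1 : j = 1 := Subtype.ext (Subtype.ext e)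
    rw [hj1, orderOf_one] at hj
    omega
  have hgS : g ∈ S := (j : S).2
  have hcomm : ∀ s ∈ S, s * g = g * s := fun s hs =>
    congrArg (fun x : S => (x : G)) (Subgroup.mem_center_iff.1 j.2 ⟨s, hs⟩)
  -- Baer
  have hq : HasQuad (L := L) (fixSet (Subgroup.zpowers g) P) :=
    ((quad_or_axis (L := L) (sq_smul hg2)).resolve_right fun ⟨c, hc⟩ => hg1 (hper g c hc)).mono
      fun p hp => fix_zpowers hp
  set m := subOrder P L (Subgroup.zpowers g) hq
  have hb : n = m ^ 2 := baer (sq_smul hg2) (exists_moved hg1) hq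
  have hm2 : 2 ∣ m := Nat.prime_two.dvd_of_dvd_pow (hb ▸ even_iff_two_dvd.1 hodd)
  have hm := two_le_subOrder (Subgroup.zpowers g) hq
  set s : Set P := {p | g • p = p} \ {P₀}
  have hs : Nat.card s = m * (m + 1) := by
    have e : Nat.card {p : P | g • p = p} = m ^ 2 + m + 1 := by
      rw [← card_fix_points (Subgroup.zpowers g) hq]
      exact Nat.card_congr (Equiv.subtypeEquivRight fun p =>
        ⟨fun h => fix_zpowers h, fun h => h g (Subgroup.mem_zpowers g)⟩)
    have hmem : P₀ ∈ {p : P | g • p = p} := hSP g hgS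
    rw [Nat.card_coe_set_eq, show s = {p : P | g • p = p} \ {P₀} from rfl,
      Set.ncard_sdiff_singleton_of_mem hmem, ← Nat.card_coe_set_eq, e,
      Nat.add_sub_cancel]
    ring
  set a := m.factorization 2
  have ha : 1 ≤ a := Nat.Prime.factorization_pos_of_dvd Nat.prime_two (by omega) hm2
  have hdvd : 2 ^ (2 * a) ∣ Nat.card s := by
    refine dvd_card_of_orbit_dvd S s (fun u hu x hx => ⟨?_, fun h => hx.2 ?_⟩) _ fun x hx => ?_
    · change g • u • x = u • x
      rw [← mul_smul, ← hcomm u hu, mul_smul, hx.1]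
    · exact MulAction.injective u (h.trans (hSP u hu).symm)
    · refine hSH.orbit_dvd x ?_
      have ho : MulAction.orbit H x = ({P₀} : Set P)ᶜ := orbit_eq_of
        (fun u hu h => hx.2 (MulAction.injective u (h.trans (show u • P₀ = P₀ from hu).symm)))
        fun y hy => by
          obtain ⟨u, hu, hux⟩ := h2 P₀ x P₀ y (Ne.symm hx.2) (Ne.symm hy)
          exact ⟨u, hu, hux⟩
      rw [ho, Nat.card_coe_set_eq, Set.ncard_compl, Set.ncard_singleton, natCard_points P L,
        Nat.add_sub_cancel, ← hn, hb, mul_comm 2 a, pow_mul]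
      exact Dvd.dvd.add (dvd_pow (pow_dvd_pow_of_dvd (Nat.ordProj_dvd m 2) 2) two_ne_zero)
        (pow_dvd_pow_of_dvd (Nat.ordProj_dvd m 2) 2)
  rw [hs] at hdvd
  have h3 : 2 ^ (2 * a) ∣ m := by
    refine Nat.Coprime.dvd_of_dvd_mul_right ?_ hdvd
    refine Nat.Coprime.pow_left _ ?_
    obtain ⟨r, hr⟩ := hm2
    rw [hr]
    exact Nat.coprime_two_left.2 (by simp [parity_simps])
  have := (Nat.prime_two.pow_dvd_iff_le_factorization (by omega)).1 h3
  omega

end Cfsg.Agent.OstromWagner
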