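import Mathlib

/-!
# Sylow subgroups of a subgroup and orbit lengths

Sylow theory for subgroups of a fixed group, stated with cardinalities.
-/

set_option autoImplicit false
set_option linter.style.haveILetI false

namespace Cfsg.Agent.OstromWagner

open MulAction

variable {G : Type*} [Group G]

/-- `S` is a Sylow `p`-subgroup of the subgroup `H`. -/
structure SylIn (p : ℕ) (H S : Subgroup G) : Prop where
  le : S ≤ H
  card : Nat.card S = p ^ (Nat.card H).factorization p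

theorem SylIn.isPGroup {p : ℕ} {H S : Subgroup G} (h : SylIn p H S) : IsPGroup p S :=
  IsPGroup.of_card h.card

theorem orbit_mul_card {α : Type*} [MulAction G α] (H : Subgroup G) (x : α) :
    Nat.card (MulAction.orbit H x) * Nat.card (H ⊓ MulAction.stabilizer G x : Subgroup G)
      = Nat.card H := by
  rw [Nat.card_coe_set_eq, ← MulAction.index_stabilizer (G := H) x,
    ← Subgroup.card_mul_index (MulAction.stabilizer H x), mul_comm]
  congr 1
  exact Nat.card_congr
    { toFun := fun u => ⟨⟨u.1, u.2.1⟩, u.2.2⟩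
      invFun := fun u => ⟨u.1.1, u.1.2, u.2⟩
      left_inv := fun u => rfl
      right_inv := fun u => rfl }

theorem mem_inf_stab {α : Type*} [MulAction G α] {H : Subgroup G} {x : α} {g : G} :
    g ∈ H ⊓ MulAction.stabilizer G x ↔ g ∈ H ∧ g • x = x := Iff.rfl

theorem orbit_subset {α : Type*} [MulAction G α] {H : Subgroup G} {x : α} {s : Set α}
    (hs : ∀ g ∈ H, g • x ∈ s) : MulAction.orbit H x ⊆ s := by
  rintro _ ⟨u, rfl⟩
  exact hs u.1 u.2

theorem orbit_card_le {α : Type*} [MulAction G α] {H : Subgroup G} {x : α} {s : Set α} [Finite α]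
    (hs : ∀ g ∈ H, g • x ∈ s) : Nat.card (MulAction.orbit H x) ≤ Nat.card s :=
  Nat.card_mono (Set.toFinite s) (orbit_subset hs)

theorem orbit_eq_of {α : Type*} [MulAction G α] {H : Subgroup G} {x : α} {s : Set α}
    (hs : ∀ g ∈ H, g • x ∈ s) (htr : ∀ y ∈ s, ∃ g ∈ H, g • x = y) : MulAction.orbit H x = s :=
  Set.Subset.antisymm (orbit_subset hs) fun y hy => by
    obtain ⟨g, hg, rfl⟩ := htr y hy
    exact ⟨⟨g, hg⟩, rfl⟩

theorem orbit_full {α : Type*} [MulAction G α] {H : Subgroup G} {x : α} {s : Set α} [Finite α]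
    (hs : ∀ g ∈ H, g • x ∈ s) (hc : Nat.card s ≤ Nat.card (MulAction.orbit H x)) :
    ∀ y ∈ s, ∃ g ∈ H, g • x = y := by
  intro y hy
  have he : MulAction.orbit H x = s := by
    refine Set.eq_of_subset_of_ncard_le (orbit_subset hs) ?_ (Set.toFinite s)
    rwa [← Nat.card_coe_set_eq, ← Nat.card_coe_set_eq]
  obtain ⟨u, rfl⟩ : y ∈ MulAction.orbit H x := he ▸ hy
  exact ⟨u.1, u.2, rfl⟩

theorem mem_normalizer_of_conj_mem [Finite G] {U : Subgroup G} {y : G}
    (h : ∀ u ∈ U, y⁻¹ * u * y ∈ U) : y ∈ Subgroup.normalizer (U : Set G) := by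
  have hsurj : Function.Surjective (fun u : U => (⟨y⁻¹ * u * y, h u u.2⟩ : U)) :=
    Finite.injective_iff_surjective.1 fun a b hab => Subtype.ext
      (by simpa using congrArg Subtype.val hab)
  refine Subgroup.mem_normalizer_iff.2 fun g => ⟨fun hg => ?_, fun hg => ?_⟩
  · obtain ⟨u, hu⟩ := hsurj ⟨g, hg⟩
    have hu' : y⁻¹ * (u : G) * y = g := congrArg Subtype.val hu
    rw [← hu', show y * (y⁻¹ * (u : G) * y) * y⁻¹ = u by group]
    exact u.2
  · simpa [mul_assoc] using h _ hg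

variable [Finite G] {p : ℕ} [hp : Fact p.Prime]

theorem exists_sylIn {H Q : Subgroup G} (hQH : Q ≤ H) (hQ : IsPGroup p Q) :
    ∃ S : Subgroup G, SylIn p H S ∧ Q ≤ S := by
  obtain ⟨S, hS⟩ := (hQ.of_equiv (Subgroup.subgroupOfEquivOfLe hQH).symm).exists_le_sylow
  refine ⟨(S : Subgroup H).map H.subtype, ⟨Subgroup.map_subtype_le _, ?_⟩, fun x hx => ?_⟩
  · rw [Subgroup.card_map_of_injective Subtype.coe_injective]
    exact S.card_eq_multiplicity
  · exact ⟨⟨x, hQH hx⟩, hS (Subgroup.mem_subgroupOf.2 hx), rfl⟩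

theorem IsPGroup.card_le_of {H Q : Subgroup G} (hQH : Q ≤ H) (hQ : IsPGroup p Q) :
    Nat.card Q ∣ p ^ (Nat.card H).factorization p := by
  obtain ⟨S, hS, hQS⟩ := exists_sylIn hQH hQ
  exact hS.card ▸ Subgroup.card_dvd_of_le hQS

theorem SylIn.exists_conj {H S Q : Subgroup G} (hS : SylIn p H S) (hQH : Q ≤ H)
    (hQ : IsPGroup p Q) : ∃ h ∈ H, ∀ x ∈ Q, h⁻¹ * x * h ∈ S := by
  obtain ⟨T, hT⟩ := (hQ.of_equiv (Subgroup.subgroupOfEquivOfLe hQH).symm).exists_le_sylow
  let S' : Sylow p H := Sylow.ofCard (S.subgroupOf H) (by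
    rw [Nat.card_congr (Subgroup.subgroupOfEquivOfLe hS.le).toEquiv]
    exact hS.card)
  obtain ⟨h, hh⟩ := MulAction.exists_smul_eq H T S'
  refine ⟨(h⁻¹ : H), (h⁻¹).2, fun x hx => ?_⟩
  have h1 : MulAut.conj h (⟨x, hQH hx⟩ : H) ∈ ((h • T : Sylow p H) : Subgroup H) :=
    Subgroup.smul_mem_pointwise_smul _ (MulAut.conj h) _ (hT (Subgroup.mem_subgroupOf.2 hx))
  rw [hh] at h1
  have h2 := Subgroup.mem_subgroupOf.1 h1
  simpa [MulAut.conj_apply] using h2

theorem SylIn.of_card_le {H S : Subgroup G} (hSH : S ≤ H) (hS : IsPGroup p S)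
    (hc : p ^ (Nat.card H).factorization p ≤ Nat.card S) : SylIn p H S :=
  ⟨hSH, le_antisymm (Nat.le_of_dvd (pow_pos hp.out.pos _) (IsPGroup.card_le_of hSH hS)) hc⟩

/-- A Sylow subgroup has orbits of length divisible by the `p`-part of the length of the orbit of
the whole group. -/
theorem SylIn.orbit_dvd {α : Type*} [MulAction G α] [Finite α] {H S : Subgroup G} (hS : SylIn p H S)
    (x : α) {k : ℕ} (hk : p ^ k ∣ Nat.card (MulAction.orbit H x)) :
    p ^ k ∣ Nat.card (MulAction.orbit S x) := by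
  have e1 := orbit_mul_card H x
  have e2 := orbit_mul_card S x
  have hSx : IsPGroup p (S ⊓ MulAction.stabilizer G x : Subgroup G) := hS.isPGroup.to_le inf_le_left
  have hd := IsPGroup.card_le_of (H := H ⊓ MulAction.stabilizer G x)
    (inf_le_inf_right _ hS.le) hSx
  set a := Nat.card (MulAction.orbit H x)
  set b := Nat.card (H ⊓ MulAction.stabilizer G x : Subgroup G) with hb
  have ha0 : a ≠ 0 := left_ne_zero_of_mul (e1 ▸ Nat.card_pos.ne')
  have hb0 : b ≠ 0 := Nat.card_pos.ne'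
  rw [hS.card, ← e1, Nat.factorization_mul ha0 hb0, Finsupp.add_apply] at e2
  have h1 : p ^ (k + b.factorization p) ∣
      Nat.card (MulAction.orbit S x) * p ^ b.factorization p := by
    refine dvd_trans ?_ (e2 ▸ Nat.mul_dvd_mul_left _ hd)
    refine pow_dvd_pow p (Nat.add_le_add_right ?_ _)
    exact (hp.out.pow_dvd_iff_le_factorization ha0).1 hk
  rw [pow_add] at h1
  exact Nat.dvd_of_mul_dvd_mul_right (pow_pos hp.out.pos _) h1

/-- A `p`-subgroup strictly inside another has a larger normalizer in it. -/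
theorem exists_normalizer_growth {S U : Subgroup G} (hS : IsPGroup p S) (hUS : U ≤ S)
    (hne : U ≠ S) : ∃ x ∈ S, x ∈ Subgroup.normalizer (U : Set G) ∧ x ∉ U := by
  haveI : Group.IsNilpotent S := hS.isNilpotent
  have hlt : U.subgroupOf S < ⊤ := lt_top_iff_ne_top.2 fun h => hne <|
    le_antisymm hUS (Subgroup.subgroupOf_eq_top.1 h)
  obtain ⟨x, hx1, hx2⟩ := SetLike.exists_of_lt (Group.normalizerCondition_of_isNilpotent _ hlt)
  refine ⟨x, x.2, Subgroup.mem_normalizer_iff.2 fun g => ?_, fun h => hx2 h⟩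
  constructor
  · intro hg
    exact (Subgroup.mem_normalizer_iff.1 hx1 ⟨g, hUS hg⟩).1 hg
  · intro hg
    have hgS : g ∈ S := by
      have := hUS hg
      have h2 := mul_mem (mul_mem (inv_mem x.2) this) x.2
      simpa [mul_assoc] using h2
    exact (Subgroup.mem_normalizer_iff.1 hx1 ⟨g, hgS⟩).2 hg

/-- A subgroup together with an element normalising it, both of `p`-power order. -/
theorem isPGroup_sup_zpowers {U : Subgroup G} (hU : IsPGroup p U) {x : G}
    (hx : x ∈ Subgroup.normalizer (U : Set G)) (hxp : ∃ k, x ^ p ^ k = 1) :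
    IsPGroup p (U ⊔ Subgroup.zpowers x : Subgroup G) := by
  obtain ⟨k, hk⟩ := hxp
  refine hU.to_sup_of_normal_left' ?_ (Subgroup.zpowers_le.2 hx)
  rintro ⟨y, i, rfl⟩
  exact ⟨k, Subtype.ext (by
    rw [Subgroup.coe_pow, ← zpow_natCast, ← zpow_mul, mul_comm, zpow_mul, zpow_natCast]
    simp [hk])⟩

/-- Lift of an element of `p`-power order. -/
theorem exists_primary_lift {W : Type*} [Group W] (f : G →* W) (x : G)
    (hx : ∃ k, (f x) ^ p ^ k = 1) :
    ∃ r : ℕ, f (x ^ r) = f x ∧ ∃ k, (x ^ r) ^ p ^ k = 1 := by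
  obtain ⟨k, hk⟩ := hx
  set N := orderOf x with hN
  have hN0 : N ≠ 0 := (orderOf_pos x).ne'
  set a := N.factorization p with ha
  set d := N / p ^ a with hd
  have hcop : Nat.Coprime d (p ^ k) :=
    (Nat.Coprime.pow_left k (hp.out.coprime_iff_not_dvd.2
      (Nat.not_dvd_ordCompl hp.out hN0))).symm
  obtain ⟨r, hr0, hr1⟩ := Nat.chineseRemainder hcop 0 1
  obtain ⟨m, rfl⟩ := Nat.modEq_zero_iff_dvd.1 hr0
  refine ⟨d * m, ?_, a, ?_⟩
  · rw [map_pow, pow_eq_pow_mod (d * m) hk, hr1, ← pow_eq_pow_mod 1 hk, pow_one]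
  · rw [← pow_mul, show d * m * p ^ a = p ^ a * d * m by ring, pow_mul, hd, ha,
      Nat.ordProj_mul_ordCompl_eq_self, hN, pow_orderOf_eq_one, one_pow]

end Cfsg.Agent.OstromWagner
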