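import Cfsg.Agent.OstromWagner.PPower

/-!
# The theorem of Ostrom and Wagner
-/

set_option autoImplicit false
set_option linter.style.haveILetI false
set_option linter.unusedVariables false
set_option linter.unusedSectionVars false

namespace Cfsg.Agent.OstromWagner

open Configuration MulAction
open scoped LinearAlgebra.Projectivization

variable {G P L : Type*} [Group G] [MulAction G P] [MulAction G L] [Membership P L]
  [ProjectivePlane P L] [Finite P] [Finite L] [PlaneAut G P L] [FaithfulSMul G P] [Finite G]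

/-- A 2-transitive plane has a perspectivity. -/
theorem exists_perspectivity (h2 : TwoTr G P) :
    ∃ (g : G) (c : L), g ≠ 1 ∧ FixesLine (P := P) g c := by
  by_contra hcon
  have hper : ∀ (g : G) (c : L), FixesLine (P := P) g c → g = 1 := fun g c hc =>
    by_contra fun h => hcon ⟨g, c, h, hc⟩
  have hn := not_even_of_no_axis h2 hper
  obtain ⟨p, e, hp, hpe⟩ := order_prime_power (L := L) h2 hn
  exact not_prime_power h2 hper hn hp hpe

theorem finrank_ker_form {F : Type*} [Field F] {n : ℕ} (φ : (Fin (n + 1) → F) →ₗ[F] F)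
    (hφ : ∃ v, φ v ≠ 0) : Module.finrank F (LinearMap.ker φ) = n := by
  have hs : LinearMap.range φ = ⊤ := LinearMap.range_eq_top.2 fun y => by
    obtain ⟨v, hv⟩ := hφ
    exact ⟨(y / φ v) • v, by rw [map_smul, smul_eq_mul, div_mul_cancel₀ _ hv]⟩
  have h := φ.finrank_range_add_finrank_ker
  rw [hs, finrank_top, Module.finrank_self, Module.finrank_fin_fun] at h
  omega

/-- A plane with a 2-transitive collineation group is coordinatised by a field. -/
theorem exists_coordinates [Fintype P] [Fintype L] (h2 : TwoTr G P) :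
    ∃ (F : Type) (_ : Field F) (_ : Fintype F) (φ : P ≃ Projectivization F (Fin 3 → F)),
      (∀ l : L, ∃ W : Submodule F (Fin 3 → F), Module.finrank F W = 2 ∧
          ∀ p : P, p ∈ l ↔ (φ p).submodule ≤ W) ∧
      (∀ W : Submodule F (Fin 3 → F), Module.finrank F W = 2 →
          ∃ l : L, ∀ p : P, p ∈ l ↔ (φ p).submodule ≤ W) := by
  classical
  have : Fintype G := Fintype.ofFinite G
  obtain ⟨g, c, hg1, hc⟩ := exists_perspectivity (L := L) h2
  obtain ⟨O, hO⟩ := exists_centre hc
  set D := design G P L with hD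
  have A : SymDesignPG.Axial D.dual :=
    { two_trans := fun l m l' m' h h' => by
        obtain ⟨x, hx⟩ := line_trans h2 l l'
        obtain ⟨u, hu, hu'⟩ := stab_trans_lines h2 (l := l') (m := x • m) (m' := m')
          (fun e => h (MulAction.injective x (hx.trans e.symm))) (Ne.symm h')
        exact ⟨u * x, by rw [mul_smul, hx, hu], by rw [mul_smul, hu']⟩
      blk_trans := point_trans h2
      out_trans := fun B x y hx hy => point_trans_lines h2 hx hy
      blk_trans₂ := fun B E E' hE hE' => h2 B E B E' (Ne.symm hE) (Ne.symm hE')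
      exists_axial := ⟨O, g, D.dual.mem_ker.2 fun m hm => hO m hm, hg1⟩ }
  have S : SymDesignPG.Homog D :=
    ⟨SymDesignPG.pspace_dual A, SymDesignPG.star_dual_transitive A⟩
  have hq : D.q = ProjectivePlane.order P L := by
    have h := S.params.1
    change ProjectivePlane.order P L + 1 = D.q * 1 + 1 at h
    omega
  obtain ⟨m, F, _, _, hm, ⟨C⟩⟩ := SymDesignPG.exists_coords S
  have hF : Nat.card F = ProjectivePlane.order P L := by
    rw [Nat.card_eq_fintype_card, C.card_eq, hq]
  obtain rfl : m = 2 := by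
    have h := Projectivization.card F (Fin (m + 1) → F)
    rw [Nat.card_congr C.equiv, natCard_points P L, Nat.card_fun, hF, Nat.card_fin] at h
    have h2' := two_le_order P L
    set q := ProjectivePlane.order P L
    obtain ⟨r, hr⟩ : ∃ r, q = r + 1 := ⟨q - 1, by omega⟩
    have h3 : q ^ (m + 1) = q ^ 3 := by
      have hpos : 1 ≤ q ^ (m + 1) := Nat.one_le_pow _ _ (by omega)
      have h' : q ^ (m + 1) = (q ^ 2 + q + 1) * (q - 1) + 1 := by omega
      rw [h', hr, Nat.add_sub_cancel]
      ring
    have := Nat.pow_right_injective h2' h3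
    omega
  have hkey : ∀ (ψ : (Fin 3 → F) →ₗ[F] F) (l : L),
      (∀ v, v ≠ 0 → (D.I (C.f v) l ↔ ψ v = 0)) →
      ∀ p : P, p ∈ l ↔ (C.equiv.symm p).submodule ≤ LinearMap.ker ψ := by
    intro ψ l hl p
    obtain ⟨v, hv, rfl⟩ := C.surj p
    rw [← C.equiv_mk v hv, Equiv.symm_apply_apply, Projectivization.submodule_mk,
      Submodule.span_singleton_le_iff_mem, LinearMap.mem_ker, ← hl v hv]
    rfl
  refine ⟨F, inferInstance, inferInstance, C.equiv.symm, fun l => ?_, fun W hW => ?_⟩
  · obtain ⟨ψ, hψ, hl⟩ := C.exists_form l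
    exact ⟨LinearMap.ker ψ, finrank_ker_form ψ hψ, hkey ψ l hl⟩
  · have hlt : W < ⊤ := lt_top_iff_ne_top.2 fun h => by
      rw [h, finrank_top, Module.finrank_fin_fun] at hW
      omega
    obtain ⟨ψ, hψ0, hψ⟩ := W.exists_le_ker_of_lt_top hlt
    have hψ' : ∃ v, ψ v ≠ 0 := by
      by_contra hh
      push Not at hh
      exact hψ0 (LinearMap.ext hh)
    have hWψ : W = LinearMap.ker ψ :=
      Submodule.eq_of_le_of_finrank_eq hψ (by rw [hW, finrank_ker_form ψ hψ'])
    obtain ⟨l, hl⟩ := C.exists_plane ψ hψ'
    exact ⟨l, hWψ ▸ hkey ψ l hl⟩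

section Collineations

variable (P L : Type*) [Membership P L]

/-- The incidence-preserving pairs of permutations. -/
def collGroup : Subgroup (Equiv.Perm P × Equiv.Perm L) where
  carrier := {x | ∀ (p : P) (l : L), x.1 p ∈ x.2 l ↔ p ∈ l}
  one_mem' := fun _ _ => Iff.rfl
  mul_mem' := fun {x y} hx hy p l => (hx (y.1 p) (y.2 l)).trans (hy p l)
  inv_mem' := fun {x} hx p l => by
    have := hx (x.1⁻¹ p) (x.2⁻¹ l)
    simp only [Prod.fst_inv, Prod.snd_inv] at this ⊢
    simpa using this.symm

instance collActP : MulAction (collGroup P L) P :=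
  MulAction.compHom P ((MonoidHom.fst _ _).comp (collGroup P L).subtype)

instance collActL : MulAction (collGroup P L) L :=
  MulAction.compHom L ((MonoidHom.snd _ _).comp (collGroup P L).subtype)

instance collAut : PlaneAut (collGroup P L) P L := ⟨fun g p l => g.2 p l⟩

variable [ProjectivePlane P L] [Finite P] [Finite L]

instance collFaithful : FaithfulSMul (collGroup P L) P := ⟨fun {g h} he => by
  have hl : ∀ l : L, g • l = h • l := fun l => by
    have := fixes_lines (g := h⁻¹ * g) (P := P) (L := L)
      (fun p => by rw [mul_smul, he p, inv_smul_smul]) l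
    rwa [mul_smul, inv_smul_eq_iff] at this
  exact Subtype.ext (Prod.ext (Equiv.ext he) (Equiv.ext hl))⟩

end Collineations

end Cfsg.Agent.OstromWagner
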