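import Cfsg.Agent.OstromWagner.PrimePower

/-!
# Prime power order

A 2-transitive plane of odd prime power order has a perspectivity.
-/

set_option autoImplicit false
set_option linter.style.haveILetI false
set_option linter.unusedVariables false
set_option linter.unusedSectionVars false

namespace Cfsg.Agent.OstromWagner

open Configuration MulAction

variable {G P L : Type*} [Group G] [MulAction G P] [MulAction G L] [Membership P L]
  [ProjectivePlane P L] [Finite P] [Finite L] [PlaneAut G P L]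

/-- A collineation fixing all points off a line fixes all points. -/
theorem fix_all_of_off {g : G} {l : L} (h : ∀ p : P, p ∉ l → g • p = p) (p : P) : g • p = p := by
  by_cases hp : p ∈ l
  · obtain ⟨a, ha, hal, -⟩ := exists_line_ne₂ (L := L) p l l
    obtain ⟨b, hb, hbl, hba⟩ := exists_line_ne₂ (L := L) p l a
    have key : ∀ m : L, p ∈ m → m ≠ l → g • m = m := by
      intro m hm hml
      obtain ⟨X, hX, hXp⟩ := exists_point_ne m p
      obtain ⟨Y, hY, hYp, hYX⟩ := exists_point_ne₂ m p X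
      exact line_fixed (h X fun e => hXp (point_unique hml hX e hm hp))
        (h Y fun e => hYp (point_unique hml hY e hm hp)) hYX.symm hX hY
    exact point_fixed (key a ha hal) (key b hb hbl) hba.symm ha hb
  · exact h p hp

variable [FaithfulSMul G P] [Finite G]

theorem not_prime_power (h2 : TwoTr G P)
    (hper : ∀ (g : G) (c : L), FixesLine (P := P) g c → g = 1)
    (hn : Odd (ProjectivePlane.order P L)) {p e : ℕ} (hp : p.Prime)
    (hpe : ProjectivePlane.order P L = p ^ e) : False := by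
  classical
  haveI := Fact.mk hp
  set n := ProjectivePlane.order P L with hn'
  have hn2 : 2 ≤ n := two_le_order P L
  have he : e ≠ 0 := fun h => by rw [h, pow_zero] at hpe; omega
  have hpodd : Odd p := (Nat.odd_pow_iff he).1 (hpe ▸ hn)
  obtain ⟨O⟩ : Nonempty P := ⟨(Classical.choose (@ProjectivePlane.exists_config P L _ _))⟩
  obtain ⟨l, hA⟩ := exists_line_not_mem (L := L) O
  obtain ⟨A, hA⟩ : ∃ A : P, A ∉ l := ⟨O, hA⟩
  obtain ⟨R, hR, -⟩ := exists_point_ne l A
  set H : Subgroup G := MulAction.stabilizer G l ⊓ MulAction.stabilizer G R with hH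
  obtain ⟨S, hS, -⟩ := exists_sylIn (p := p) (H := H) (Q := ⊥) bot_le IsPGroup.of_bot
  have hSl : ∀ s ∈ S, s • l = l := fun s hs => (hS.le hs).1
  have hSR : ∀ s ∈ S, s • R = R := fun s hs => (hS.le hs).2
  have hmaps : ∀ {B : P}, B ∉ l → ∀ s ∈ S, s • B ∈ {q : P | q ∉ l} := fun hB s hs h =>
    hB ((mem_of_fix_line (hSl s hs)).1 h)
  have hoff : Nat.card {q : P | q ∉ l} = n ^ 2 := card_off l
  have horbA : ∀ B : P, B ∉ l → Nat.card (MulAction.orbit S B) = n ^ 2 := by
    intro B hB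
    refine le_antisymm (hoff ▸ orbit_card_le (hmaps hB)) (Nat.le_of_dvd ?_ ?_)
    · haveI : Nonempty (MulAction.orbit S B) := ⟨⟨B, MulAction.mem_orbit_self B⟩⟩
      exact Nat.card_pos
    · rw [hpe, ← pow_mul]
      refine hS.orbit_dvd B ?_
      rw [(card_flag_orbit h2 hB hR).1, ← hn', hpe, ← pow_mul]
  have hoffS : ∀ B : P, B ∉ l → ∀ X : P, X ∉ l → ∃ s ∈ S, s • B = X := fun B hB X hX =>
    orbit_full (hmaps hB) (by rw [hoff, horbA B hB]) X hX
  have honS : ∀ D : P, D ∈ l → D ≠ R → ∀ D' : P, D' ∈ l → D' ≠ R → ∃ s ∈ S, s • D = D' := by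
    intro D hD hDR
    have hm : ∀ {K : Subgroup G}, K ≤ H → ∀ s ∈ K, s • D ∈ {q : P | q ∈ l} \ {R} := fun hK s hs =>
      ⟨(mem_of_fix_line (hK hs).1).2 hD,
        fun h => hDR (MulAction.injective s (h.trans (show s • R = R from (hK hs).2).symm))⟩
    have hc : Nat.card ↥({q : P | q ∈ l} \ {R}) = n := by
      rw [Nat.card_coe_set_eq, Set.ncard_sdiff_singleton_of_mem (show R ∈ {q : P | q ∈ l} from hR),
        ← Nat.card_coe_set_eq, show Nat.card {q : P | q ∈ l} = n + 1 from card_on l,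
        Nat.add_sub_cancel]
    have ho : MulAction.orbit H D = {q : P | q ∈ l} \ {R} := orbit_eq_of (hm le_rfl)
      fun y hy => by
        obtain ⟨g, hg, hgR, hgD⟩ := stab_two_trans h2 (Ne.symm hDR) (Ne.symm hy.2) hR hD hR hy.1
        exact ⟨g, ⟨hg, hgR⟩, hgD⟩
    have hd : p ^ e ∣ Nat.card (MulAction.orbit S D) := hS.orbit_dvd D (by rw [ho, hc, hpe])
    intro D' hD' hD'R
    refine orbit_full (hm hS.le) ?_ D' ⟨hD', hD'R⟩
    rw [hc, hpe]
    refine Nat.le_of_dvd ?_ hd
    haveI : Nonempty (MulAction.orbit S D) := ⟨⟨D, MulAction.mem_orbit_self D⟩⟩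
    exact Nat.card_pos
  -- a central element
  haveI : Nontrivial S := Finite.one_lt_card_iff_nontrivial.1 (by
    have h1 := orbit_mul_card S A
    rw [horbA A hA] at h1
    rw [← h1]
    exact lt_of_lt_of_le (Nat.one_lt_pow two_ne_zero hn2) (Nat.le_mul_of_pos_right _ Nat.card_pos))
  haveI : Nontrivial (Subgroup.center S) := hS.isPGroup.center_nontrivial
  obtain ⟨z₀, hz₀⟩ := exists_ne (1 : Subgroup.center S)
  set z : G := ((z₀ : S) : G) with hzdef
  have hzS : z ∈ S := (z₀ : S).2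
  have hz1 : z ≠ 1 := fun h => hz₀ (Subtype.ext (Subtype.ext h))
  have hzc : ∀ s ∈ S, s * z = z * s := fun s hs =>
    congrArg (fun x : S => (x : G)) (Subgroup.mem_center_iff.1 z₀.2 ⟨s, hs⟩)
  have hzaff : ∀ X : P, X ∉ l → z • X ≠ X := by
    intro X hX h
    refine hz1 (eq_one_of_fix (fix_all_of_off (l := l) fun Y hY => ?_))
    obtain ⟨s, hs, rfl⟩ := hoffS X hX Y hY
    rw [← mul_smul, ← hzc s hs, mul_smul, h]
  have hzon : ∀ D : P, D ∈ l → z • D = D → D = R := by
    intro D hD h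
    by_contra hDR
    refine hz1 (hper z l fun Y hY => ?_)
    by_cases hYR : Y = R
    · exact hYR ▸ hSR z hzS
    obtain ⟨s, hs, rfl⟩ := honS D hD hDR Y hY hYR
    rw [← mul_smul, ← hzc s hs, mul_smul, h]
  have hzfix : ∀ X : P, z • X = X → X = R := fun X hX =>
    hzon X (by_contra fun h => hzaff X h hX) hX
  have hzline : ∀ m : L, z • m = m → m = l := by
    intro m hm
    have h1 : Nat.card {q : P // z • q = q} = 1 := Nat.card_eq_one_iff_unique.2
      ⟨⟨fun a b => Subtype.ext ((hzfix a a.2).trans (hzfix b b.2).symm)⟩, ⟨⟨R, hSR z hzS⟩⟩⟩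
    rw [parker (P := P) (L := L) z] at h1
    haveI := (Nat.card_eq_one_iff_unique.1 h1).1
    exact congrArg (fun x : {l : L // z • l = l} => x.1)
      (Subsingleton.elim (⟨m, hm⟩ : {l : L // z • l = l}) ⟨l, hSl z hzS⟩)
  have hzodd : Odd (orderOf z) := by
    obtain ⟨j, hj⟩ := hS.isPGroup ⟨z, hzS⟩
    exact Odd.of_dvd_nat hpodd.pow
      (orderOf_dvd_of_pow_eq_one (show z ^ p ^ j = 1 from congrArg Subtype.val hj))
  obtain ⟨r, hr⟩ := hzodd
  have hz2 : z = (z * z) ^ (r + 1) := by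
    rw [← pow_two, ← pow_mul, show 2 * (r + 1) = orderOf z + 1 by omega, pow_succ,
      pow_orderOf_eq_one, one_mul]
  -- the subgroup fixing an affine point
  set U : Subgroup G := S ⊓ MulAction.stabilizer G A with hU
  have hUeq : ∀ X : P, X ∉ l → (∀ u ∈ U, u • X = X) → S ⊓ MulAction.stabilizer G X = U := by
    intro X hX hfix
    symm
    refine Subgroup.eq_of_le_of_card_ge (le_inf inf_le_left fun u hu => hfix u hu) ?_
    have h1 := orbit_mul_card S X
    have h3 := orbit_mul_card S A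
    rw [horbA X hX] at h1
    rw [horbA A hA, ← h1] at h3
    exact (Nat.eq_of_mul_eq_mul_left (pow_pos (by omega) 2) h3).ge
  set HA : Subgroup G := H ⊓ MulAction.stabilizer G A with hHA
  have hUp : IsPGroup p U := hS.isPGroup.to_le inf_le_left
  have hUsyl : SylIn p HA U := by
    refine ⟨inf_le_inf_right _ hS.le, Nat.eq_of_mul_eq_mul_left (pow_pos (by omega : 0 < n) 2) ?_⟩
    have h1 := orbit_mul_card S A
    have h3 := orbit_mul_card H A
    rw [horbA A hA, hS.card] at h1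
    rw [(card_flag_orbit h2 hA hR).1, ← hn'] at h3
    rw [h1, ← h3, Nat.factorization_mul (pow_ne_zero _ (by omega)) Nat.card_pos.ne',
      Finsupp.add_apply, pow_add, hpe, ← pow_mul, hp.factorization_pow, Finsupp.single_eq_same]
  have hUA : ∀ u ∈ U, u • A = A := fun u hu => hu.2
  have hUR : ∀ u ∈ U, u • R = R := fun u hu => hSR u hu.1
  have hUl : ∀ u ∈ U, u • l = l := fun u hu => hSl u hu.1
  have hUz : ∀ (q : P), (∀ u ∈ U, u • q = q) → ∀ u ∈ U, u • z • q = z • q := fun q hq u hu => by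
    rw [← mul_smul, hzc u hu.1, mul_smul, hq u hu]
  have hzA : z • A ≠ A := hzaff A hA
  have hzzA : z • z • A ≠ A := fun h => hzA (by
    conv_lhs => rw [hz2]
    exact (Subgroup.pow_mem (MulAction.stabilizer G A) (show z * z ∈ MulAction.stabilizer G A by
      rw [MulAction.mem_stabilizer_iff, mul_smul, h]) _ : _))
  have hzA' : z • A ∉ l := fun h => hA ((mem_of_fix_line (hSl z hzS)).1 h)
  have hzzA' : z • z • A ∉ l := fun h => hzA' ((mem_of_fix_line (hSl z hzS)).1 h)
  have hAR : A ≠ R := fun h => hA (h ▸ hR)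
  have hzAR : z • A ≠ R := fun h => hzA' (h ▸ hR)
  have hq : HasQuad (L := L) (fixSet U P) := by
    refine ⟨A, z • A, z • z • A, R, hUA, hUz _ hUA, hUz _ (hUz _ hUA), hUR,
      ⟨hzA.symm, fun m h1 h3 h4 => ?_⟩, ⟨hzA.symm, fun m h1 h3 h4 => ?_⟩,
      ⟨hzzA.symm, fun m h1 h3 h4 => ?_⟩,
      ⟨fun h => hzA (MulAction.injective z h).symm, fun m h1 h3 h4 => ?_⟩⟩
    · refine hA ((hzline m ?_) ▸ h1)
      exact line_unique (fun h => hzA (MulAction.injective z h).symm)
        ((mem_smul_iff z).2 h1) ((mem_smul_iff z).2 h3) h3 h4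
    · refine hA ((hzline m ?_) ▸ h1)
      exact line_unique hzAR ((mem_smul_iff z).2 h1)
        (by have := (mem_smul_iff z).2 h4; rwa [hSR z hzS] at this) h3 h4
    · refine hA ((hzline m ?_) ▸ h1)
      have h5 : (z * z) • m = m := by
        refine line_unique (fun h : z • z • A = R => hzzA' (h ▸ hR)) ?_ ?_ h3 h4
        · rw [← mul_smul]
          exact (mem_smul_iff (z * z)).2 h1
        · have := (mem_smul_iff (z * z)).2 h4
          rwa [mul_smul z z R, hSR z hzS, hSR z hzS] at this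
      conv_lhs => rw [hz2]
      exact Subgroup.pow_mem (MulAction.stabilizer G m) h5 _
    · refine hzA' ((hzline m ?_) ▸ h1)
      exact line_unique (fun h : z • z • A = R => hzzA' (h ▸ hR)) ((mem_smul_iff z).2 h1)
        (by have := (mem_smul_iff z).2 h4; rwa [hSR z hzS] at this) h3 h4
  letI := subPlane U hq
  set k := subOrder P L U hq with hk
  have hk2 : 2 ≤ k := two_le_subOrder U hq
  set N : Subgroup G := Subgroup.normalizer (U : Set G) with hN
  set S' : Subgroup G := S ⊓ N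
  have hUS' : U ≤ S' := le_inf inf_le_left Subgroup.le_normalizer
  set aff : Set P := {X : P | X ∉ l ∧ ∀ u ∈ U, u • X = X}
  have haff : Nat.card aff = k ^ 2 := by
    refine Eq.trans ?_ (card_off (P := Fix U P) (⟨l, hUl⟩ : Fix U L))
    exact Nat.card_congr
      { toFun := fun q => ⟨⟨q.1, q.2.2⟩, q.2.1⟩
        invFun := fun q => ⟨q.1.1, q.2, q.1.2⟩
        left_inv := fun q => rfl
        right_inv := fun q => rfl }
  have hS'A : Nat.card S' = k ^ 2 * Nat.card U := by
    rw [← orbit_mul_card S' A, orbit_eq_of (H := S') (s := aff) (fun s hs => ⟨hmaps hA s hs.1,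
      normalizer_smul_fix hs.2 hUA⟩) fun X hX => ?_, haff]
    · rw [show S' ⊓ MulAction.stabilizer G A = U from le_antisymm (inf_le_inf_right _ inf_le_left) (le_inf hUS' inf_le_right)]
    · obtain ⟨s, hs, hsA⟩ := hoffS A hA X hX.1
      refine ⟨s, ⟨hs, mem_normalizer_of_conj_mem fun u hu => ?_⟩, hsA⟩
      refine ⟨S.mul_mem (S.mul_mem (S.inv_mem hs) hu.1) hs, ?_⟩
      change (s⁻¹ * u * s) • A = A
      rw [mul_smul, mul_smul, hsA, hX.2 u hu, ← hsA, inv_smul_smul]
  -- `S'` is a Sylow subgroup of the stabilizer of `R` in the normalizer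
  have hS'syl : SylIn p (N ⊓ H) S' := by
    have hle : S' ≤ N ⊓ H := fun s hs => ⟨hs.2, hS.le hs.1⟩
    refine SylIn.of_card_le hle (hS.isPGroup.to_le inf_le_left) ?_
    have ho : MulAction.orbit (N ⊓ H : Subgroup G) A = aff := by
      refine orbit_eq_of (fun g hg => ⟨fun h => hA ((mem_of_fix_line hg.2.1).1 h),
        normalizer_smul_fix hg.1 hUA⟩) fun X hX => ?_
      obtain ⟨s, hs, hsA⟩ := hoffS A hA X hX.1
      refine ⟨s, hle ⟨hs, mem_normalizer_of_conj_mem fun u hu => ⟨S.mul_mem (S.mul_mem (S.inv_mem hs)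
        hu.1) hs, ?_⟩⟩, hsA⟩
      change (s⁻¹ * u * s) • A = A
      rw [mul_smul, mul_smul, hsA, hX.2 u hu, ← hsA, inv_smul_smul]
    rw [← orbit_mul_card (N ⊓ H) A, ho, haff, Nat.factorization_mul (pow_ne_zero _ (by omega))
      Nat.card_pos.ne', Finsupp.add_apply, pow_add, hS'A]
    refine Nat.mul_le_mul (Nat.le_of_dvd (pow_pos (by omega) 2) (Nat.ordProj_dvd _ p)) ?_
    rw [hUsyl.card]
    refine Nat.pow_le_pow_right hp.pos ?_
    exact (Nat.factorization_le_iff_dvd Nat.card_pos.ne' Nat.card_pos.ne').2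
      (Subgroup.card_dvd_of_le (inf_le_inf_right _ inf_le_right)) p
  -- a second point on the axis
  obtain ⟨D, hD, hDR⟩ := exists_point_ne (⟨l, hUl⟩ : Fix U L) (⟨R, hUR⟩ : Fix U P)
  have hDl : D.1 ∈ l := hD
  have hDR' : D.1 ≠ R := fun h => hDR (Subtype.ext h)
  obtain ⟨g, hgl, hgA, hgR⟩ := anti_trans_on h2 hA hR hDl
  obtain ⟨y, hyN, hyl, hyR⟩ : ∃ y ∈ N, y • l = l ∧ y • R = D.1 := by
    have hg1 : g⁻¹ • l = l := inv_smul_eq_iff.2 hgl.symm
    have hg2 : g⁻¹ • A = A := inv_smul_eq_iff.2 hgA.symm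
    set Q : Subgroup G := U.map (MulAut.conj g⁻¹).toMonoidHom
    have hQH : Q ≤ HA := by
      rintro _ ⟨u, hu, rfl⟩
      refine ⟨⟨?_, ?_⟩, ?_⟩ <;> change (g⁻¹ * u * g⁻¹⁻¹) • _ = _ <;>
        rw [inv_inv, mul_smul, mul_smul]
      · rw [hgl, hUl u hu, hg1]
      · rw [hgR, D.2 u hu, ← hgR, inv_smul_smul]
      · rw [hgA, hUA u hu, hg2]
    obtain ⟨h, hh, hconj⟩ := hUsyl.exists_conj hQH (hUp.map _)
    refine ⟨g * h, mem_normalizer_of_conj_mem fun u hu => ?_,
      by rw [mul_smul, show h • l = l from hh.1.1, hgl],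
      by rw [mul_smul, show h • R = R from hh.1.2, hgR]⟩
    have := hconj _ ⟨u, hu, rfl⟩
    simpa [mul_assoc] using this
  -- an element of `S'` fixing `D` outside `U`
  obtain ⟨s, hs, hsD, hsU⟩ : ∃ s ∈ S', s • D.1 = D.1 ∧ s ∉ U := by
    by_contra hcon
    push Not at hcon
    have hle : Nat.card (S' ⊓ MulAction.stabilizer G D.1 : Subgroup G) ≤ Nat.card U :=
      Subgroup.card_le_of_le (fun s hs => hcon s hs.1 hs.2)
    set onl : Set P := {X : P | X ∈ l ∧ ∀ u ∈ U, u • X = X}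
    have honl : Nat.card ↥(onl \ {R}) = k := by
      rw [Nat.card_coe_set_eq, Set.ncard_sdiff_singleton_of_mem (show R ∈ onl from ⟨hR, hUR⟩),
        ← Nat.card_coe_set_eq, show Nat.card onl = k + 1 from card_fix_on U hq hUl,
        Nat.add_sub_cancel]
    have ho : Nat.card (MulAction.orbit S' D.1) ≤ k := honl ▸ orbit_card_le fun s hs =>
      ⟨⟨(mem_of_fix_line (hSl s hs.1)).2 hDl, normalizer_smul_fix hs.2 D.2⟩,
        fun h => hDR' (MulAction.injective s (h.trans (hSR s hs.1).symm))⟩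
    have h1 := orbit_mul_card S' D.1
    rw [hS'A] at h1
    have h3 := (Nat.mul_le_mul ho hle)
    rw [h1] at h3
    exact absurd (Nat.le_of_mul_le_mul_right h3 Nat.card_pos) (by
      rw [pow_two, not_le]; nlinarith)
  -- fixed lines of such elements pass through `R`
  have hkey : ∀ s ∈ S', s ∉ U → ∀ b : L, (∀ u ∈ U, u • b = b) → s • b = b → R ∈ b := by
    intro s hs hsU b hUb hsb
    by_contra hRb
    have hbl : b ≠ l := fun h => hRb (h ▸ hR)
    have hne : b ≠ z • b := fun h => hbl (hzline b h.symm)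
    obtain ⟨X, hX1, hX2⟩ := exists_point_on (P := P) b (z • b) hne
    have hXl : X ∉ l := fun hXl => hRb (by
      have h1 : z⁻¹ • X ∈ b := by
        rw [← mem_smul_iff z, smul_inv_smul]; exact hX2
      have h3 : z⁻¹ • X ∈ l := by
        rw [← mem_smul_iff z, smul_inv_smul, hSl z hzS]; exact hXl
      have h4 : z⁻¹ • X = X := point_unique hbl h1 h3 hX1 hXl
      exact (hzfix X (inv_smul_eq_iff.1 h4).symm) ▸ hX1)
    have hUX : ∀ u ∈ U, u • X = X := fun u hu => point_fixed (hUb u hu)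
      (by rw [← mul_smul, hzc u hu.1, mul_smul, hUb u hu]) hne hX1 hX2
    have hsX : s • X = X := point_fixed hsb
      (by rw [← mul_smul, hzc s hs.1, mul_smul, hsb]) hne hX1 hX2
    exact hsU (hUeq X hXl hUX ▸ ⟨hs.1, hsX⟩)
  -- conjugate into the stabilizer of `R`
  set Q : Subgroup G := (Subgroup.zpowers s).map (MulAut.conj y⁻¹).toMonoidHom
  have hQ : Q ≤ N ⊓ H := by
    rw [Subgroup.map_le_iff_le_comap, Subgroup.zpowers_le]
    refine ⟨?_, ?_, ?_⟩
    · exact N.mul_mem (N.mul_mem (N.inv_mem hyN) hs.2) (N.inv_mem (N.inv_mem hyN))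
    · change (y⁻¹ * s * y⁻¹⁻¹) • l = l
      rw [inv_inv, mul_smul, mul_smul, hyl, hSl s hs.1]
      exact inv_smul_eq_iff.2 hyl.symm
    · change (y⁻¹ * s * y⁻¹⁻¹) • R = R
      rw [inv_inv, mul_smul, mul_smul, hyR, hsD, ← hyR, inv_smul_smul]
  obtain ⟨h, hh, hconj⟩ := hS'syl.exists_conj hQ
    ((hS.isPGroup.to_le (Subgroup.zpowers_le.2 hs.1)).map _)
  have hs'S : (y * h)⁻¹ * s * (y * h) ∈ S' := by
    have := hconj _ ⟨s, Subgroup.mem_zpowers s, rfl⟩
    simpa [mul_assoc] using this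
  have hyhN : y * h ∈ N := mul_mem hyN hh.1
  have hs'U : (y * h)⁻¹ * s * (y * h) ∉ U := fun hmem => hsU (by
    have := (Subgroup.mem_normalizer_iff.1 hyhN _).1 hmem
    rwa [show y * h * ((y * h)⁻¹ * s * (y * h)) * (y * h)⁻¹ = s by group] at this)
  have hlines : ∀ b : Fix U L, s • b.1 = b.1 → b.1 = l := by
    intro b hb
    refine line_unique (Ne.symm hDR') (hkey s hs hsU b.1 b.2 hb) ?_ hR hDl
    have h1 := hkey _ hs'S hs'U ((y * h)⁻¹ • b.1) (normalizer_smul_fix (inv_mem hyhN) b.2) (by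
      rw [mul_smul ((y * h)⁻¹ * s), smul_inv_smul, mul_smul, hb])
    rw [← mem_smul_iff (y * h), smul_inv_smul, mul_smul, show h • R = R from hh.2.2, hyR] at h1
    exact h1
  set σ : Subgroup.normalizer (U : Set G) := ⟨s, hs.2⟩
  have h1 : Nat.card {b : Fix U L // σ • b = b} = 1 := Nat.card_eq_one_iff_unique.2
    ⟨⟨fun a b => Subtype.ext (Subtype.ext ((hlines a.1 (congrArg Subtype.val a.2)).trans
      (hlines b.1 (congrArg Subtype.val b.2)).symm))⟩, ⟨⟨⟨l, hUl⟩, Subtype.ext (hSl s hs.1)⟩⟩⟩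
  rw [← parker (P := Fix U P) (L := Fix U L) σ] at h1
  haveI := (Nat.card_eq_one_iff_unique.1 h1).1
  exact hDR (congrArg (fun x : {q : Fix U P // σ • q = q} => x.1)
    (Subsingleton.elim (⟨D, Subtype.ext hsD⟩ : {q : Fix U P // σ • q = q})
      ⟨⟨R, hUR⟩, Subtype.ext (hSR s hs.1)⟩))

end Cfsg.Agent.OstromWagner
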