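import Mathlib

/-!
# Collineations of finite projective planes

Parker's lemma, perspectivities, and the two kinds of involutions.
-/

set_option autoImplicit false
set_option linter.style.haveILetI false
set_option linter.unusedVariables false

namespace Cfsg.Agent.OstromWagner

open Configuration Finset MulAction

/-- A group acts on a point–line configuration by automorphisms. -/
class PlaneAut (G P L : Type*) [Group G] [MulAction G P] [MulAction G L] [Membership P L] :
    Prop where
  mem_smul : ∀ (g : G) (p : P) (l : L), g • p ∈ g • l ↔ p ∈ l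

instance dualAction {G P : Type*} [Group G] [MulAction G P] : MulAction G (Configuration.Dual P) :=
  inferInstanceAs (MulAction G P)

instance dualAut {G P L : Type*} [Group G] [MulAction G P] [MulAction G L] [Membership P L]
    [PlaneAut G P L] : PlaneAut G (Configuration.Dual L) (Configuration.Dual P) :=
  ⟨fun g l p => PlaneAut.mem_smul (G := G) (P := P) (L := L) g p l⟩

set_option linter.unusedSectionVars false

variable {G P L : Type*} [Group G] [MulAction G P] [MulAction G L] [Membership P L]
  [ProjectivePlane P L] [Finite P] [Finite L] [PlaneAut G P L]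

theorem line_unique {p q : P} {l m : L} (hpq : p ≠ q) (h1 : p ∈ l) (h2 : q ∈ l) (h3 : p ∈ m)
    (h4 : q ∈ m) : l = m :=
  (Nondegenerate.eq_or_eq h1 h2 h3 h4).resolve_left hpq

theorem point_unique {p q : P} {l m : L} (hlm : l ≠ m) (h1 : p ∈ l) (h2 : p ∈ m) (h3 : q ∈ l)
    (h4 : q ∈ m) : p = q :=
  (Nondegenerate.eq_or_eq h1 h3 h2 h4).resolve_right hlm

theorem exists_line_through (p q : P) (h : p ≠ q) : ∃ l : L, p ∈ l ∧ q ∈ l :=
  ⟨_, HasLines.mkLine_ax h⟩

theorem exists_point_on (l m : L) (h : l ≠ m) : ∃ p : P, p ∈ l ∧ p ∈ m :=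
  ⟨_, HasPoints.mkPoint_ax h⟩

variable (P L) in
theorem two_le_order : 2 ≤ ProjectivePlane.order P L := ProjectivePlane.one_lt_order P L

theorem card_on (l : L) : Nat.card {p : P // p ∈ l} = ProjectivePlane.order P L + 1 :=
  ProjectivePlane.pointCount_eq P l

theorem card_through (p : P) : Nat.card {l : L // p ∈ l} = ProjectivePlane.order P L + 1 :=
  ProjectivePlane.lineCount_eq L p

variable (P L) in
theorem natCard_points :
    Nat.card P = ProjectivePlane.order P L ^ 2 + ProjectivePlane.order P L + 1 := by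
  have : Fintype P := Fintype.ofFinite P
  rw [Nat.card_eq_fintype_card]
  exact ProjectivePlane.card_points P L

variable (P L) in
theorem natCard_lines :
    Nat.card L = ProjectivePlane.order P L ^ 2 + ProjectivePlane.order P L + 1 := by
  have : Fintype L := Fintype.ofFinite L
  rw [Nat.card_eq_fintype_card]
  exact ProjectivePlane.card_lines P L

theorem exists_point_ne (l : L) (a : P) : ∃ p : P, p ∈ l ∧ p ≠ a := by
  by_contra hcon
  push Not at hcon
  have h : Nat.card {p : P // p ∈ l} ≤ Nat.card Unit :=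
    Nat.card_le_card_of_injective (fun _ => ())
      (fun p q _ => Subtype.ext ((hcon p p.2).trans (hcon q q.2).symm))
  have := two_le_order P L
  rw [card_on, Nat.card_unique] at h
  omega

theorem exists_point_ne₂ (l : L) (a b : P) : ∃ p : P, p ∈ l ∧ p ≠ a ∧ p ≠ b := by
  by_contra hcon
  push Not at hcon
  classical
  have h : Nat.card {p : P // p ∈ l} ≤ Nat.card Bool :=
    Nat.card_le_card_of_injective (fun p => decide (p.1 = a)) (fun p q h => by
      rcases Classical.em (p.1 = a) with hp | hp <;> rcases Classical.em (q.1 = a) with hq | hq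
      · exact Subtype.ext (hp.trans hq.symm)
      · simp [hp, hq] at h
      · simp [hp, hq] at h
      · exact Subtype.ext ((hcon p p.2 hp).trans (hcon q q.2 hq).symm))
  have := two_le_order P L
  rw [card_on, Nat.card_eq_fintype_card, Fintype.card_bool] at h
  omega

theorem exists_line_ne₂ (p : P) (a b : L) : ∃ l : L, p ∈ l ∧ l ≠ a ∧ l ≠ b :=
  exists_point_ne₂ (P := Configuration.Dual L) (L := Configuration.Dual P) p a b

theorem exists_line_not_mem (p : P) : ∃ l : L, p ∉ l := Nondegenerate.exists_line p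

theorem mem_smul_iff (g : G) {p : P} {l : L} : g • p ∈ g • l ↔ p ∈ l := PlaneAut.mem_smul g p l

theorem mem_of_fix_line {g : G} {l : L} (hl : g • l = l) {p : P} : g • p ∈ l ↔ p ∈ l := by
  conv_lhs => rw [← hl]
  exact mem_smul_iff g

/-- The line through two fixed points is fixed. -/
theorem line_fixed {g : G} {p q : P} (hp : g • p = p) (hq : g • q = q) (hpq : p ≠ q) {l : L}
    (h1 : p ∈ l) (h2 : q ∈ l) : g • l = l := by
  refine line_unique hpq ?_ ?_ h1 h2
  · rw [← hp]; exact (mem_smul_iff g).2 h1
  · rw [← hq]; exact (mem_smul_iff g).2 h2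

/-- The point on two fixed lines is fixed. -/
theorem point_fixed {g : G} {l m : L} (hl : g • l = l) (hm : g • m = m) (hlm : l ≠ m) {p : P}
    (h1 : p ∈ l) (h2 : p ∈ m) : g • p = p :=
  point_unique hlm ((mem_of_fix_line hl).2 h1) ((mem_of_fix_line hm).2 h2) h1 h2

/-- A collineation fixing all points fixes all lines. -/
theorem fixes_lines {g : G} (h : ∀ p : P, g • p = p) (l : L) : g • l = l := by
  obtain ⟨p, hp⟩ : ∃ p : P, p ∈ l := by
    obtain ⟨p, hp, -⟩ := exists_point_ne l (Classical.choose (Nondegenerate.exists_point (P := P) l))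
    exact ⟨p, hp⟩
  obtain ⟨q, hq, hqp⟩ := exists_point_ne l p
  exact line_fixed (h p) (h q) hqp.symm hp hq

open scoped Classical in
/-- **Parker**: as many fixed points as fixed lines. -/
theorem parker (g : G) : Nat.card {p : P // g • p = p} = Nat.card {l : L // g • l = l} := by
  have : Fintype P := Fintype.ofFinite P
  have : Fintype L := Fintype.ofFinite L
  set n := ProjectivePlane.order P L with hn
  rw [Nat.card_eq_fintype_card, Nat.card_eq_fintype_card, Fintype.card_subtype,
    Fintype.card_subtype]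
  have h := sum_card_bipartiteAbove_eq_sum_card_bipartiteBelow
    (r := fun p l => p ∈ l ∧ g • p ∈ l) (s := (univ : Finset P)) (t := (univ : Finset L))
  have hA : ∀ p : P, ((univ : Finset L).bipartiteAbove (fun p l => p ∈ l ∧ g • p ∈ l) p).card
      = if g • p = p then n + 1 else 1 := by
    intro p
    split_ifs with hp
    · rw [hn, ← card_through (L := L) p, Nat.card_eq_fintype_card, Fintype.card_subtype]
      congr 1
      ext l
      simp [bipartiteAbove, hp]
    · obtain ⟨l, hl1, hl2⟩ := exists_line_through (L := L) p (g • p) (Ne.symm hp)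
      rw [card_eq_one]
      refine ⟨l, ?_⟩
      ext m
      simp only [bipartiteAbove, mem_filter, mem_univ, true_and, mem_singleton]
      exact ⟨fun h => line_unique (Ne.symm hp) h.1 h.2 hl1 hl2, fun h => h ▸ ⟨hl1, hl2⟩⟩
  have hB : ∀ l : L, ((univ : Finset P).bipartiteBelow (fun p l => p ∈ l ∧ g • p ∈ l) l).card
      = if g • l = l then n + 1 else 1 := by
    intro l
    split_ifs with hl
    · rw [hn, ← card_on (P := P) l, Nat.card_eq_fintype_card, Fintype.card_subtype]
      congr 1
      ext p
      simp [bipartiteBelow, mem_of_fix_line hl]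
    · have hne : l ≠ g⁻¹ • l := fun h => hl (eq_inv_smul_iff.1 h)
      obtain ⟨p, hp1, hp2⟩ := exists_point_on (P := P) l (g⁻¹ • l) hne
      rw [card_eq_one]
      refine ⟨p, ?_⟩
      ext q
      simp only [bipartiteBelow, mem_filter, mem_univ, true_and, mem_singleton]
      have hq : g • q ∈ l ↔ q ∈ g⁻¹ • l := by
        conv_lhs => rw [← smul_inv_smul g l]
        exact mem_smul_iff g
      rw [hq]
      exact ⟨fun h => point_unique hne h.1 h.2 hp1 hp2, fun h => h ▸ ⟨hp1, hp2⟩⟩
  simp only [hA, hB, sum_ite, sum_const, smul_eq_mul] at h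
  have eP := card_filter_add_card_filter_not (s := (univ : Finset P)) (fun p => g • p = p)
  have eL := card_filter_add_card_filter_not (s := (univ : Finset L)) (fun l => g • l = l)
  rw [card_univ, ← Nat.card_eq_fintype_card, natCard_points P L] at eP
  rw [card_univ, ← Nat.card_eq_fintype_card, natCard_lines P L] at eL
  have hn2 := two_le_order P L
  nlinarith

/-- The axis of `g`. -/
def FixesLine (g : G) (c : L) : Prop := ∀ p : P, p ∈ c → g • p = p

/-- The centre of `g`. -/
def HasCentre (g : G) (O : P) : Prop := ∀ m : L, O ∈ m → g • m = m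

theorem FixesLine.fix {g : G} {c : L} (h : FixesLine (P := P) g c) : g • c = c := by
  obtain ⟨p, hp, -⟩ := exists_point_ne c (Classical.choose (Nondegenerate.exists_point (P := P) c))
  obtain ⟨q, hq, hqp⟩ := exists_point_ne c p
  exact line_fixed (h p hp) (h q hq) hqp.symm hp hq

theorem HasCentre.fix {g : G} {O : P} (h : HasCentre (L := L) g O) : g • O = O :=
  FixesLine.fix (P := Configuration.Dual L) (L := Configuration.Dual P) h

theorem FixesLine.inv {g : G} {c : L} (h : FixesLine (P := P) g c) :
    FixesLine (P := P) g⁻¹ c :=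
  fun p hp => inv_smul_eq_iff.2 (h p hp).symm

theorem FixesLine.mul {g h : G} {c : L} (hg : FixesLine (P := P) g c)
    (hh : FixesLine (P := P) h c) : FixesLine (P := P) (g * h) c :=
  fun p hp => by rw [mul_smul, hh p hp, hg p hp]

theorem FixesLine.conj {g : G} {c : L} (hg : FixesLine (P := P) g c) (x : G) :
    FixesLine (P := P) (x * g * x⁻¹) (x • c) := fun p hp => by
  have : x⁻¹ • p ∈ c := by
    rw [← mem_smul_iff x, smul_inv_smul]
    exact hp
  rw [mul_smul, mul_smul, hg _ this, smul_inv_smul]

theorem HasCentre.inv {g : G} {O : P} (h : HasCentre (L := L) g O) :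
    HasCentre (L := L) g⁻¹ O :=
  FixesLine.inv (P := Configuration.Dual L) (L := Configuration.Dual P) h

theorem HasCentre.mul {g h : G} {O : P} (hg : HasCentre (L := L) g O)
    (hh : HasCentre (L := L) h O) : HasCentre (L := L) (g * h) O :=
  FixesLine.mul (P := Configuration.Dual L) (L := Configuration.Dual P) hg hh

theorem HasCentre.conj {g : G} {O : P} (hg : HasCentre (L := L) g O) (x : G) :
    HasCentre (L := L) (x * g * x⁻¹) (x • O) :=
  FixesLine.conj (P := Configuration.Dual L) (L := Configuration.Dual P) hg x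

theorem HasCentre.fixed_line {g : G} {O p : P} (h : HasCentre (L := L) g O) (hp : g • p = p)
    {m : L} (hpm : p ∈ m) (hm : O ∈ m) : g • p ∈ m := hp.symm ▸ hpm

/-- Every collineation with an axis has a centre. -/
theorem exists_centre {g : G} {c : L} (hg : FixesLine (P := P) g c) :
    ∃ O : P, HasCentre (L := L) g O := by
  by_cases hO : ∃ O : P, O ∉ c ∧ g • O = O
  · obtain ⟨O, hOc, hO⟩ := hO
    refine ⟨O, fun m hm => ?_⟩
    obtain ⟨X, hX1, hX2⟩ := exists_point_on (P := P) m c fun h => hOc (h ▸ hm)
    exact line_fixed hO (hg X hX2) (fun h => hOc (h ▸ hX2)) hm hX1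
  push Not at hO
  have hfix : ∀ p : P, g • p = p ↔ p ∈ c :=
    fun p => ⟨fun hp => by_contra fun hpc => hO p hpc hp, hg p⟩
  have hcard : Nat.card {l : L // g • l = l} = ProjectivePlane.order P L + 1 := by
    rw [← parker g, ← card_on (P := P) c]
    exact Nat.card_congr (Equiv.subtypeEquivRight hfix)
  obtain ⟨m₀, hm₀, hm₀c⟩ : ∃ m : L, g • m = m ∧ m ≠ c := by
    by_contra hcon
    push Not at hcon
    have h : Nat.card {l : L // g • l = l} ≤ Nat.card Unit :=
      Nat.card_le_card_of_injective (fun _ => ())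
        (fun p q _ => Subtype.ext ((hcon p p.2).trans (hcon q q.2).symm))
    have := two_le_order P L
    rw [hcard, Nat.card_unique] at h
    omega
  obtain ⟨O, hO1, hO2⟩ := exists_point_on (P := P) m₀ c hm₀c
  have hsub : ∀ l : L, g • l = l → O ∈ l := by
    intro l hl
    by_cases hlc : l = c
    · exact hlc ▸ hO2
    by_cases hlm : l = m₀
    · exact hlm ▸ hO1
    obtain ⟨X, hX1, hX2⟩ := exists_point_on (P := P) l m₀ hlm
    have hXc : X ∈ c := (hfix X).1 (point_fixed hl hm₀ hlm hX1 hX2)
    exact (point_unique hm₀c hX2 hXc hO1 hO2) ▸ hX1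
  refine ⟨O, fun m hm => ?_⟩
  let f : {l : L // g • l = l} → {l : L // O ∈ l} := fun l => ⟨l, hsub l l.2⟩
  obtain ⟨-, hsurj⟩ := (Nat.bijective_iff_injective_and_card f).2
    ⟨fun a b h => Subtype.ext (congrArg (fun x => x.1) h), by rw [hcard, card_through]⟩
  obtain ⟨l, hl⟩ := hsurj ⟨m, hm⟩
  obtain rfl : (l : L) = m := congrArg (fun x => x.1) hl
  exact l.2

/-- Every collineation with a centre has an axis. -/
theorem exists_axis {g : G} {O : P} (hg : HasCentre (L := L) g O) :
    ∃ c : L, FixesLine (P := P) g c :=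
  exists_centre (P := Configuration.Dual L) (L := Configuration.Dual P) hg

/-- A collineation with two centres fixes every point. -/
theorem two_centres {g : G} {O O' : P} (hne : O ≠ O') (h : HasCentre (L := L) g O)
    (h' : HasCentre (L := L) g O') (p : P) : g • p = p := by
  obtain ⟨j, hj, hj'⟩ := exists_line_through (L := L) O O' hne
  have off : ∀ X : P, X ∉ j → g • X = X := by
    intro X hX
    have hXO : X ≠ O := fun e => hX (e ▸ hj)
    have hXO' : X ≠ O' := fun e => hX (e ▸ hj')
    obtain ⟨a, ha, ha'⟩ := exists_line_through (L := L) X O hXO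
    obtain ⟨b, hb, hb'⟩ := exists_line_through (L := L) X O' hXO'
    refine point_fixed (h a ha') (h' b hb') (fun e => hX ?_) ha hb
    exact (line_unique hne ha' (e ▸ hb') hj hj') ▸ ha
  by_cases hp : p ∈ j
  · obtain ⟨a, ha, haj, -⟩ := exists_line_ne₂ (L := L) p j j
    obtain ⟨b, hb, hbj, hba⟩ := exists_line_ne₂ (L := L) p j a
    have key : ∀ m : L, p ∈ m → m ≠ j → g • m = m := by
      intro m hm hmj
      obtain ⟨X, hX, hXp⟩ := exists_point_ne m p
      obtain ⟨Y, hY, hYp, hYX⟩ := exists_point_ne₂ m p X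
      exact line_fixed (off X fun e => hXp (point_unique hmj hX e hm hp))
        (off Y fun e => hYp (point_unique hmj hY e hm hp)) hYX.symm hX hY
    exact point_fixed (key a ha haj) (key b hb hbj) hba.symm ha hb
  · exact off p hp

/-- A collineation with two axes fixes every point. -/
theorem two_axes {g : G} {c c' : L} (hne : c ≠ c') (h : FixesLine (P := P) g c)
    (h' : FixesLine (P := P) g c') (p : P) : g • p = p := by
  have hl := two_centres (P := Configuration.Dual L) (L := Configuration.Dual P) (g := g) hne h h'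
  obtain ⟨a, ha, -, -⟩ := exists_line_ne₂ (L := L) p c c
  obtain ⟨b, hb, hba, -⟩ := exists_line_ne₂ (L := L) p a a
  exact point_fixed (P := P) (L := L) (show g • a = a from hl a) (show g • b = b from hl b)
    hba.symm ha hb

/-- A fixed point of a perspectivity is on the axis or is the centre. -/
theorem fixed_point {g : G} {c : L} {O p : P} (hnt : ∃ q : P, g • q ≠ q)
    (hc : FixesLine (P := P) g c) (hO : HasCentre (L := L) g O) (hp : g • p = p) :
    p ∈ c ∨ p = O := by
  by_contra hcon
  push Not at hcon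
  obtain ⟨q, hq⟩ := hnt
  refine hq (two_centres hcon.2 (fun m hm => ?_) hO q)
  obtain ⟨X, hX1, hX2⟩ := exists_point_on (P := P) m c fun h => hcon.1 (h ▸ hm)
  exact line_fixed hp (hc X hX2) (fun h => hcon.1 (h ▸ hX2)) hm hX1

/-- A fixed line of a perspectivity passes through the centre or is the axis. -/
theorem fixed_line {g : G} {c : L} {O : P} {m : L} (hnt : ∃ q : P, g • q ≠ q)
    (hc : FixesLine (P := P) g c) (hO : HasCentre (L := L) g O) (hm : g • m = m) :
    O ∈ m ∨ m = c := by
  refine fixed_point (P := Configuration.Dual L) (L := Configuration.Dual P) ?_ hO hc hm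
  by_contra hcon
  push Not at hcon
  obtain ⟨q, hq⟩ := hnt
  obtain ⟨a, ha, -, -⟩ := exists_line_ne₂ (L := L) q c c
  obtain ⟨b, hb, hba, -⟩ := exists_line_ne₂ (L := L) q a a
  exact hq (point_fixed (P := P) (L := L) (show g • a = a from hcon a)
    (show g • b = b from hcon b) hba.symm ha hb)

/-- No three of four points collinear. -/
def Gen3 (a b c : P) : Prop := a ≠ b ∧ ∀ l : L, a ∈ l → b ∈ l → c ∉ l

/-- A quadrangle inside a set. -/
def HasQuad (s : Set P) : Prop :=
  ∃ a b c d : P, a ∈ s ∧ b ∈ s ∧ c ∈ s ∧ d ∈ s ∧ Gen3 (L := L) a b c ∧ Gen3 (L := L) a b d ∧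
    Gen3 (L := L) a c d ∧ Gen3 (L := L) b c d

theorem HasQuad.mono {s t : Set P} (h : HasQuad (L := L) s) (hst : s ⊆ t) :
    HasQuad (L := L) t := by
  obtain ⟨a, b, c, d, ha, hb, hc, hd, h⟩ := h
  exact ⟨a, b, c, d, hst ha, hst hb, hst hc, hst hd, h⟩

section Involution

variable {g : G} (hg : ∀ p : P, g • g • p = p)
include hg

theorem invol_smul_line (l : L) : g • g • l = l := by
  rw [← mul_smul]
  exact fixes_lines (fun p => by rw [mul_smul, hg]) l

theorem exists_fixed_on (l : L) : ∃ p : P, p ∈ l ∧ g • p = p := by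
  by_cases hl : g • l = l
  · by_cases hX : ∃ X : P, X ∉ l ∧ g • X ≠ X
    · obtain ⟨X, hXl, hX⟩ := hX
      obtain ⟨m, hm1, hm2⟩ := exists_line_through (L := L) X (g • X) (Ne.symm hX)
      have hm : g • m = m := by
        refine line_unique (Ne.symm hX) ?_ ?_ hm1 hm2
        · have := (mem_smul_iff g).2 hm2
          rwa [hg] at this
        · exact (mem_smul_iff g).2 hm1
      obtain ⟨p, hp1, hp2⟩ := exists_point_on (P := P) l m fun h => hXl (h ▸ hm1)
      exact ⟨p, hp1, point_fixed hl hm (fun h => hXl (h ▸ hm1)) hp1 hp2⟩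
    · push Not at hX
      obtain ⟨p, hp, -⟩ :=
        exists_point_ne l (Classical.choose (Nondegenerate.exists_point (P := P) l))
      refine ⟨p, hp, ?_⟩
      obtain ⟨a, ha, hal, -⟩ := exists_line_ne₂ (L := L) p l l
      obtain ⟨b, hb, hbl, hba⟩ := exists_line_ne₂ (L := L) p l a
      have key : ∀ m : L, p ∈ m → m ≠ l → g • m = m := by
        intro m hm hml
        obtain ⟨X, hX', hXp⟩ := exists_point_ne m p
        obtain ⟨Y, hY', hYp, hYX⟩ := exists_point_ne₂ m p X
        exact line_fixed (hX X fun e => hXp (point_unique hml hX' e hm hp))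
          (hX Y fun e => hYp (point_unique hml hY' e hm hp)) hYX.symm hX' hY'
      exact point_fixed (key a ha hal) (key b hb hbl) hba.symm ha hb
  · obtain ⟨p, hp1, hp2⟩ := exists_point_on (P := P) l (g • l) (Ne.symm hl)
    refine ⟨p, hp1, point_unique (Ne.symm hl) ?_ ?_ hp1 hp2⟩
    · have := (mem_smul_iff g).2 hp2
      rwa [invol_smul_line hg] at this
    · exact (mem_smul_iff g).2 hp1

theorem exists_fixed_through (p : P) : ∃ l : L, p ∈ l ∧ g • l = l := by
  by_cases hp : g • p = p
  · obtain ⟨m, hm⟩ := exists_line_not_mem (L := L) p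
    obtain ⟨X, hX, hXf⟩ := exists_fixed_on hg m
    have hne : p ≠ X := fun e => hm (e ▸ hX)
    obtain ⟨l, hl1, hl2⟩ := exists_line_through (L := L) p X hne
    exact ⟨l, hl1, line_fixed hp hXf hne hl1 hl2⟩
  · obtain ⟨m, hm1, hm2⟩ := exists_line_through (L := L) p (g • p) (Ne.symm hp)
    refine ⟨m, hm1, line_unique (Ne.symm hp) ?_ ?_ hm1 hm2⟩
    · have := (mem_smul_iff g).2 hm2
      rwa [hg] at this
    · exact (mem_smul_iff g).2 hm1

omit hg in
theorem gen3_of {a b c : P} (hab : a ≠ b) (h : ∀ l : L, a ∈ l → b ∈ l → c ∈ l → False) :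
    Gen3 (L := L) a b c := ⟨hab, fun l h1 h2 h3 => h l h1 h2 h3⟩

/-- An involution fixes a quadrangle or has an axis. -/
theorem quad_or_axis :
    HasQuad (L := L) {p : P | g • p = p} ∨ ∃ c : L, FixesLine (P := P) g c := by
  classical
  by_cases hA : ∃ (c : L) (a b d : P), a ≠ b ∧ a ≠ d ∧ b ≠ d ∧ a ∈ c ∧ b ∈ c ∧ d ∈ c ∧
      g • a = a ∧ g • b = b ∧ g • d = d
  · obtain ⟨c, a, b, d, hab, had, hbd, hac, hbc, hdc, ha, hb, hd⟩ := hA
    by_cases hoff : ∃ X Y : P, X ≠ Y ∧ X ∉ c ∧ Y ∉ c ∧ g • X = X ∧ g • Y = Y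
    · obtain ⟨X, Y, hXY, hX, hY, hXf, hYf⟩ := hoff
      obtain ⟨j, hj1, hj2⟩ := exists_line_through (L := L) X Y hXY
      obtain ⟨A, B, hAB, hA1, hB1, hA2, hB2, hAf, hBf⟩ : ∃ A B : P, A ≠ B ∧ A ∈ c ∧ B ∈ c ∧
          A ∉ j ∧ B ∉ j ∧ g • A = A ∧ g • B = B := by
        have hjc : j ≠ c := fun e => hX (e ▸ hj1)
        by_cases haj : a ∈ j
        · exact ⟨b, d, hbd, hbc, hdc, fun h => hab (point_unique hjc haj hac h hbc),
            fun h => had (point_unique hjc haj hac h hdc), hb, hd⟩
        · by_cases hbj : b ∈ j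
          · exact ⟨a, d, had, hac, hdc, haj, fun h => hbd (point_unique hjc hbj hbc h hdc), ha, hd⟩
          · exact ⟨a, b, hab, hac, hbc, haj, hbj, ha, hb⟩
      refine Or.inl ⟨A, B, X, Y, hAf, hBf, hXf, hYf, gen3_of hAB fun l h1 h2 h3 => hX ?_,
        gen3_of hAB fun l h1 h2 h3 => hY ?_,
        gen3_of (fun e => hX (e ▸ hA1)) fun l h1 h2 h3 => hA2 ?_,
        gen3_of (fun e => hX (e ▸ hB1)) fun l h1 h2 h3 => hB2 ?_⟩
      · exact line_unique hAB h1 h2 hA1 hB1 ▸ h3
      · exact line_unique hAB h1 h2 hA1 hB1 ▸ h3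
      · exact line_unique hXY h2 h3 hj1 hj2 ▸ h1
      · exact line_unique hXY h2 h3 hj1 hj2 ▸ h1
    · right
      push Not at hoff
      refine ⟨c, fun p hp => ?_⟩
      obtain ⟨m, hpm, hmc, hmO⟩ : ∃ m : L, p ∈ m ∧ m ≠ c ∧
          ∀ X : P, X ∈ m → X ∉ c → g • X ≠ X := by
        by_cases hO : ∃ O : P, O ∉ c ∧ g • O = O
        · obtain ⟨O, hOc, hO⟩ := hO
          obtain ⟨j, hj1, hj2⟩ := exists_line_through (L := L) p O fun e => hOc (e ▸ hp)
          obtain ⟨m, hm, hmc, hmj⟩ := exists_line_ne₂ (L := L) p c j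
          refine ⟨m, hm, hmc, fun X hX hXc hXf => ?_⟩
          obtain rfl : X = O := by_contra fun hne => hoff X O hne hXc hOc hXf hO
          exact hmj (line_unique (fun e : p = X => hXc (e ▸ hp)) hm hX hj1 hj2)
        · push Not at hO
          obtain ⟨m, hm, hmc, -⟩ := exists_line_ne₂ (L := L) p c c
          exact ⟨m, hm, hmc, fun X _ hXc => hO X hXc⟩
      obtain ⟨X, hX, hXf⟩ := exists_fixed_on hg m
      have hXc : X ∈ c := by_contra fun h => hmO X hX h hXf
      obtain rfl := point_unique hmc hX hXc hpm hp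
      exact hXf
  · left
    push Not at hA
    have : Fintype P := Fintype.ofFinite P
    have : Fintype L := Fintype.ofFinite L
    set F := univ.filter fun p : P => g • p = p with hF
    have hgen : ∀ a ∈ F, ∀ b ∈ F, ∀ c ∈ F, a ≠ b → a ≠ c → b ≠ c → Gen3 (L := L) a b c :=
      fun a ha b hb c hc hab hac hbc => gen3_of hab fun l h1 h2 h3 =>
        hA l a b c hab hac hbc h1 h2 h3 (by simpa [F] using ha) (by simpa [F] using hb)
          (by simpa [F] using hc)
    by_contra hno
    have hF3 : F.card ≤ 3 := by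
      by_contra hcon
      push Not at hcon
      obtain ⟨t, ht, htc⟩ := exists_subset_card_eq (n := 4) (by omega : 4 ≤ F.card)
      obtain ⟨a, b, c, d, hab, hac, had, hbc, hbd, hcd, rfl⟩ := card_eq_four.1 htc
      have ha : a ∈ F := ht (by simp)
      have hb : b ∈ F := ht (by simp)
      have hc : c ∈ F := ht (by simp)
      have hd : d ∈ F := ht (by simp)
      exact hno ⟨a, b, c, d, by simpa [F] using ha, by simpa [F] using hb, by simpa [F] using hc,
        by simpa [F] using hd, hgen a ha b hb c hc hab hac hbc, hgen a ha b hb d hd hab had hbd,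
        hgen a ha c hc d hd hac had hcd, hgen b hb c hc d hd hbc hbd hcd⟩
    let thr : P → Finset L := fun p => univ.filter fun l => p ∈ l
    have hthr : ∀ p : P, (thr p).card = ProjectivePlane.order P L + 1 := fun p => by
      rw [← card_through (L := L) p, Nat.card_eq_fintype_card, Fintype.card_subtype]
    have hcov : (univ : Finset L) ⊆ F.biUnion thr := fun l _ => by
      obtain ⟨p, hp, hpf⟩ := exists_fixed_on hg l
      exact mem_biUnion.2 ⟨p, by simp [F, hpf], by simp [thr, hp]⟩
    have hbound := card_le_card hcov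
    rw [card_univ, ← Nat.card_eq_fintype_card, natCard_lines P L] at hbound
    have hn := two_le_order P L
    set n := ProjectivePlane.order P L
    rcases Nat.lt_or_ge F.card 3 with h2 | h3
    · have := (card_biUnion_le_card_mul F thr (n + 1) fun p _ => (hthr p).le)
      nlinarith
    · obtain ⟨a, b, c, hab, hac, hbc, hF'⟩ := card_eq_three.1 (le_antisymm hF3 h3)
      rw [hF', biUnion_insert, biUnion_insert, singleton_biUnion, ← union_assoc] at hbound
      obtain ⟨j, hja, hjb⟩ := exists_line_through (L := L) a b hab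
      obtain ⟨i, hia, hic⟩ := exists_line_through (L := L) a c hac
      obtain ⟨i', hib, hic'⟩ := exists_line_through (L := L) b c hbc
      have h1 : 1 ≤ (thr a ∩ thr b).card := card_pos.2 ⟨j, by simp [thr, hja, hjb]⟩
      have h2' : 2 ≤ ((thr a ∪ thr b) ∩ thr c).card := by
        have hii : i ≠ i' := fun e =>
          hA i a b c hab hac hbc hia (e ▸ hib) hic
            (by simpa [F] using (hF'.symm ▸ (by simp) : a ∈ F))
            (by simpa [F] using (hF'.symm ▸ (by simp) : b ∈ F))
            (by simpa [F] using (hF'.symm ▸ (by simp) : c ∈ F))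
        rw [← card_pair hii]
        refine card_le_card fun x hx => ?_
        rcases mem_insert.1 hx with rfl | hx
        · simp [thr, hia, hic]
        · rw [mem_singleton.1 hx]; simp [thr, hib, hic']
      have e1 := card_union_add_card_inter (thr a) (thr b)
      have e2 := card_union_add_card_inter (thr a ∪ thr b) (thr c)
      rw [hthr, hthr] at e1
      rw [hthr] at e2
      nlinarith

end Involution

end Cfsg.Agent.OstromWagner
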