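import Cfsg.Agent.OstromWagner.Even
import Cfsg.Agent.OstromWagner.Bottom

/-!
# Odd order

The order of a 2-transitive plane of odd order is a prime power: apply the homology argument to
the fixed plane of a minimal planar 2-group.
-/

set_option autoImplicit false
set_option linter.style.haveILetI false
set_option linter.unusedVariables false
set_option linter.unusedSectionVars false

namespace Cfsg.Agent.OstromWagner

open Configuration MulAction

variable {G P L : Type*} [Group G] [MulAction G P] [MulAction G L] [Membership P L]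
  [ProjectivePlane P L] [Finite P] [Finite L] [PlaneAut G P L]

variable (P L) in
theorem exists_quad : HasQuad (L := L) (Set.univ : Set P) := by
  obtain ⟨O⟩ : Nonempty P := ⟨(Classical.choose (@ProjectivePlane.exists_config P L _ _))⟩
  obtain ⟨j, -⟩ := exists_line_not_mem (L := L) O
  obtain ⟨l, hl, -, -⟩ := exists_line_ne₂ (L := L) O j j
  obtain ⟨m, hm, hml, -⟩ := exists_line_ne₂ (L := L) O l l
  obtain ⟨a, ha, haO⟩ := exists_point_ne l O
  obtain ⟨b, hb, hbO, hba⟩ := exists_point_ne₂ l O a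
  obtain ⟨c, hc, hcO⟩ := exists_point_ne m O
  obtain ⟨d, hd, hdO, hdc⟩ := exists_point_ne₂ m O c
  have key : ∀ {x : P}, x ∈ m → x ∈ l → x = O := fun hxm hxl => point_unique hml hxm hxl hm hl
  refine ⟨a, b, c, d, trivial, trivial, trivial, trivial,
    ⟨hba.symm, fun i h1 h2 h3 => hcO (key hc (line_unique hba.symm h1 h2 ha hb ▸ h3))⟩,
    ⟨hba.symm, fun i h1 h2 h3 => hdO (key hd (line_unique hba.symm h1 h2 ha hb ▸ h3))⟩,
    ⟨fun e => hcO (key hc (e ▸ ha)), fun i h1 h2 h3 =>
      haO (key (line_unique hdc.symm h2 h3 hc hd ▸ h1) ha)⟩,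
    ⟨fun e => hcO (key hc (e ▸ hb)), fun i h1 h2 h3 =>
      hbO (key (line_unique hdc.symm h2 h3 hc hd ▸ h1) hb)⟩⟩

/-- A quadrangle of the fixed plane is a quadrangle of the plane. -/
theorem HasQuad.of_fix {U : Subgroup G} {s : Set (Fix U P)} {t : Set P}
    (h : HasQuad (L := Fix U L) s) (hst : ∀ p ∈ s, p.1 ∈ t) : HasQuad (L := L) t := by
  obtain ⟨a, b, c, d, ha, hb, hc, hd, h⟩ := h
  have key : ∀ {x y z : Fix U P}, Gen3 (L := Fix U L) x y z → Gen3 (L := L) x.1 y.1 z.1 :=
    fun {x y z} h => ⟨fun e => h.1 (Subtype.ext e), fun l h1 h2 h3 =>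
      h.2 ⟨l, fun u hu => line_fixed (x.2 u hu) (y.2 u hu) (fun e => h.1 (Subtype.ext e)) h1 h2⟩
        h1 h2 h3⟩
  exact ⟨_, _, _, _, hst a ha, hst b hb, hst c hc, hst d hd, key h.1, key h.2.1, key h.2.2.1,
    key h.2.2.2⟩

variable [FaithfulSMul G P] [Finite G]

theorem card_triple_eq (h2 : TwoTr G P) {l l' : L} {A R A' R' : P} (hA : A ∉ l) (hR : R ∈ l)
    (hA' : A' ∉ l') (hR' : R' ∈ l') :
    Nat.card (MulAction.stabilizer G l ⊓ MulAction.stabilizer G A ⊓ MulAction.stabilizer G R :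
        Subgroup G)
      = Nat.card (MulAction.stabilizer G l' ⊓ MulAction.stabilizer G A' ⊓
          MulAction.stabilizer G R' : Subgroup G) := by
  obtain ⟨g, rfl, rfl, rfl⟩ := triple_trans h2 hA hR hA' hR'
  refine Nat.card_congr ((MulAut.conj g).toEquiv.subtypeEquiv fun x => ?_)
  simp only [Subgroup.mem_inf, MulAction.mem_stabilizer_iff, MulEquiv.toEquiv_eq_coe,
    EquivLike.coe_coe, MulAut.conj_apply, mul_smul, inv_smul_smul, smul_left_cancel_iff]

/-- The order of a 2-transitive plane of odd order is a prime power. -/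
theorem order_prime_power (h2 : TwoTr G P) (hn : Odd (ProjectivePlane.order P L)) :
    ∃ p e : ℕ, p.Prime ∧ ProjectivePlane.order P L = p ^ e := by
  classical
  haveI := Fact.mk Nat.prime_two
  obtain ⟨U, ⟨hUp, hUq⟩, hmin, hmax⟩ : ∃ U : Subgroup G,
      (IsPGroup 2 U ∧ HasQuad (L := L) (fixSet U P)) ∧
      (∀ V : Subgroup G, IsPGroup 2 V → HasQuad (L := L) (fixSet V P) →
        Nat.card (Fix U P) ≤ Nat.card (Fix V P)) ∧
      (∀ V : Subgroup G, IsPGroup 2 V → HasQuad (L := L) (fixSet V P) →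
        Nat.card (Fix V P) ≤ Nat.card (Fix U P) → Nat.card V ≤ Nat.card U) := by
    have : Fintype (Subgroup G) := Fintype.ofFinite _
    set S := Finset.univ.filter fun U : Subgroup G => IsPGroup 2 U ∧ HasQuad (L := L) (fixSet U P)
    have hne : S.Nonempty := ⟨⊥, Finset.mem_filter.2 ⟨Finset.mem_univ _, IsPGroup.of_bot,
      (exists_quad P L).mono fun p _ u hu => by rw [Subgroup.mem_bot.1 hu, one_smul]⟩⟩
    obtain ⟨U₁, hU₁, hmin⟩ := Finset.exists_min_image S (fun U => Nat.card (Fix U P)) hne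
    obtain ⟨U, hU, hmax⟩ := Finset.exists_max_image
      (S.filter fun U => Nat.card (Fix U P) ≤ Nat.card (Fix U₁ P)) (fun U => Nat.card U)
      ⟨U₁, Finset.mem_filter.2 ⟨hU₁, le_rfl⟩⟩
    obtain ⟨hUS, hU1⟩ := Finset.mem_filter.1 hU
    refine ⟨U, (Finset.mem_filter.1 hUS).2, fun V hV hVq => hU1.trans (hmin V (by simp [S, hV, hVq])),
      fun V hV hVq hle => hmax V (by simp [S, hV, hVq, hle.trans hU1])⟩
  obtain ⟨i, hi⟩ := two_group_order U hUp hUq
  set k := subOrder P L U hUq
  have hk : Odd k := (Nat.odd_pow_iff (pow_ne_zero i two_ne_zero)).1 (hi ▸ hn)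
  letI := subPlane U hUq
  set N := Subgroup.normalizer (U : Set G)
  set f : N →* Equiv.Perm (Fix U P) × Equiv.Perm (Fix U L) :=
    (MulAction.toPermHom N (Fix U P)).prod (MulAction.toPermHom N (Fix U L))
  set W := f.range
  letI : MulAction W (Fix U P) := MulAction.compHom _ ((MonoidHom.fst _ _).comp W.subtype)
  letI : MulAction W (Fix U L) := MulAction.compHom _ ((MonoidHom.snd _ _).comp W.subtype)
  have hW : ∀ (x : N) (p : Fix U P), ((f.rangeRestrict x) • p).1 = (x : G) • p.1 := fun x p => rfl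
  have hWL : ∀ (x : N) (l : Fix U L), ((f.rangeRestrict x) • l).1 = (x : G) • l.1 :=
    fun x l => rfl
  haveI : PlaneAut W (Fix U P) (Fix U L) := ⟨by
    rintro ⟨_, x, rfl⟩ p l
    exact mem_smul_iff (G := N) x⟩
  haveI : FaithfulSMul W (Fix U P) := ⟨by
    rintro ⟨_, x, rfl⟩ ⟨_, y, rfl⟩ h
    have hp : ∀ p : Fix U P, (y⁻¹ * x : N) • p = p := fun p => by
      rw [mul_smul, show x • p = y • p from h p, inv_smul_smul]
    have hl : ∀ l : Fix U L, x • l = y • l := fun l => by
      have := fixes_lines (g := (y⁻¹ * x : N)) hp l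
      rwa [mul_smul, inv_smul_eq_iff] at this
    exact Subtype.ext (Prod.ext (Equiv.ext h) (Equiv.ext hl))⟩
  -- lifting elements of 2-power order
  have hlift : ∀ w : W, (∃ j, w ^ 2 ^ j = 1) → ∃ x : N, f.rangeRestrict x = w ∧
      IsPGroup 2 (U ⊔ Subgroup.zpowers (x : G) : Subgroup G) := by
    intro w hw
    obtain ⟨x, rfl⟩ := f.rangeRestrict_surjective w
    obtain ⟨r, hr, j, hj⟩ := exists_primary_lift (p := 2) f.rangeRestrict x hw
    exact ⟨x ^ r, hr, isPGroup_sup_zpowers hUp (x ^ r).2 ⟨j, congrArg Subtype.val hj⟩⟩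
  have hsup : ∀ (x : G) (p : P), (∀ u ∈ U, u • p = p) → x • p = p →
      ∀ v ∈ U ⊔ Subgroup.zpowers x, v • p = p := fun x p hU hx v hv =>
    (sup_le (fun u hu => hU u hu) (Subgroup.zpowers_le.2 hx) : _ ≤ MulAction.stabilizer G p) hv
  have hinv : ∀ w : W, w ≠ 1 → w * w = 1 → ∃ c : Fix U L, FixesLine (P := Fix U P) w c := by
    intro w hw hw2
    refine (quad_or_axis (L := Fix U L) (sq_smul hw2)).resolve_left fun hq => ?_
    obtain ⟨x, hx, hxp⟩ := hlift w ⟨1, by rw [pow_one, pow_two, hw2]⟩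
    have hq' : HasQuad (L := L) (fixSet (U ⊔ Subgroup.zpowers (x : G)) P) :=
      hq.of_fix fun p hp => hsup x p.1 p.2 (by rw [← hW, hx]; exact congrArg Subtype.val hp)
    refine Nat.not_lt.2 (hmin _ hxp hq') ?_
    have : Fintype P := Fintype.ofFinite P
    rw [Nat.card_eq_fintype_card, Nat.card_eq_fintype_card]
    refine Fintype.card_lt_of_injective_not_surjective (fun p => (⟨p.1, fun u hu =>
      p.2 u (Subgroup.mem_sup_left hu)⟩ : Fix U P)) (fun a b hab => Subtype.ext
        (show a.1 = b.1 from congrArg (fun z : Fix U P => z.1) hab)) fun hsurj => ?_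
    obtain ⟨q, hq0⟩ := exists_moved (P := Fix U P) hw
    obtain ⟨p, hp⟩ := hsurj q
    refine hq0 (Subtype.ext ?_)
    rw [← hx, hW, ← hp]
    exact p.2 x (Subgroup.mem_sup_right (Subgroup.mem_zpowers _))
  have hflag : ∀ (l : Fix U L) (A R : Fix U P), A ∉ l → R ∈ l →
      ∃ w : W, w ≠ 1 ∧ w * w = 1 ∧ w • l = l ∧ w • A = A ∧ w • R = R := by
    intro l A R hA hR
    set H : Subgroup G :=
      MulAction.stabilizer G l.1 ⊓ MulAction.stabilizer G A.1 ⊓ MulAction.stabilizer G R.1
    have hUH : U ≤ H := fun u hu => ⟨⟨l.2 u hu, A.2 u hu⟩, R.2 u hu⟩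
    obtain ⟨T, hT, hUT⟩ := exists_sylIn hUH hUp
    by_cases hTU : U = T
    · exfalso
      subst hTU
      set WA : Subgroup W := MulAction.stabilizer W l ⊓ MulAction.stabilizer W A
      have horb : MulAction.orbit WA R = {D : Fix U P | D ∈ l} := by
        refine orbit_eq_of (fun w hw => (mem_of_fix_line hw.1).2 hR) fun D hD => ?_
        obtain ⟨g, hgl, hgA, hgR⟩ := anti_trans_on h2 (l := l.1) (A := A.1) (R := R.1) hA hR hD
        have hg1 : g⁻¹ • l.1 = l.1 := inv_smul_eq_iff.2 hgl.symm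
        have hg2 : g⁻¹ • A.1 = A.1 := inv_smul_eq_iff.2 hgA.symm
        set Q : Subgroup G := U.map (MulAut.conj g⁻¹).toMonoidHom
        have hQH : Q ≤ H := by
          rintro _ ⟨u, hu, rfl⟩
          refine ⟨⟨?_, ?_⟩, ?_⟩ <;> change (g⁻¹ * u * g⁻¹⁻¹) • _ = _ <;>
            rw [inv_inv, mul_smul, mul_smul]
          · rw [hgl, l.2 u hu, hg1]
          · rw [hgA, A.2 u hu, hg2]
          · rw [hgR, D.2 u hu, ← hgR, inv_smul_smul]
        obtain ⟨h, hh, hconj⟩ := hT.exists_conj hQH (hUp.map _)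
        have hy : g * h ∈ N := mem_normalizer_of_conj_mem fun u hu => by
          have := hconj _ ⟨u, hu, rfl⟩
          simpa [mul_assoc] using this
        refine ⟨f.rangeRestrict ⟨g * h, hy⟩, ⟨Subtype.ext ?_, Subtype.ext ?_⟩, Subtype.ext ?_⟩
        · rw [hWL, mul_smul, show h • l.1 = l.1 from hh.1.1, hgl]
        · rw [hW, mul_smul, show h • A.1 = A.1 from hh.1.2, hgA]
        · rw [hW, mul_smul, show h • R.1 = R.1 from hh.2, hgR]
      have heven : 2 ∣ Nat.card WA := by
        rw [← orbit_mul_card WA R, horb]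
        refine Dvd.dvd.mul_right ?_ _
        rw [show Nat.card {D : Fix U P | D ∈ l} = k + 1 from card_on l]
        exact even_iff_two_dvd.1 (Odd.add_one hk)
      obtain ⟨w, hw⟩ := exists_prime_orderOf_dvd_card' (G := WA) 2 heven
      have hw1 : (w : W) ≠ 1 := fun e => by
        rw [show w = 1 from Subtype.ext e, orderOf_one] at hw
        omega
      have hw2 : (w : W) * (w : W) = 1 := congrArg Subtype.val
        (show w * w = 1 by rw [← pow_two, ← hw, pow_orderOf_eq_one])
      obtain ⟨R', hR', hwR'⟩ := exists_fixed_on (P := Fix U P) (sq_smul hw2) l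
      obtain ⟨x, hx, hxp⟩ := hlift w ⟨1, by rw [pow_one, pow_two, hw2]⟩
      have hV : U ⊔ Subgroup.zpowers (x : G) ≤
          MulAction.stabilizer G l.1 ⊓ MulAction.stabilizer G A.1 ⊓ MulAction.stabilizer G R'.1 := by
        refine sup_le (fun u hu => ⟨⟨l.2 u hu, A.2 u hu⟩, R'.2 u hu⟩)
          (Subgroup.zpowers_le.2 ⟨⟨?_, ?_⟩, ?_⟩) <;> change (x : G) • _ = _
        · rw [← hWL, hx]; exact congrArg Subtype.val w.2.1
        · rw [← hW, hx]; exact congrArg Subtype.val w.2.2
        · rw [← hW, hx]; exact congrArg Subtype.val hwR'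
      have hle := Nat.le_of_dvd (pow_pos two_pos _) (IsPGroup.card_le_of hV hxp)
      rw [← card_triple_eq h2 (l := l.1) (A := A.1) (R := R.1) hA hR (R' := R'.1) hA hR', ← hT.card]
        at hle
      have hxU : (x : G) ∈ U := by
        rw [Subgroup.eq_of_le_of_card_ge le_sup_left hle]
        exact Subgroup.mem_sup_right (Subgroup.mem_zpowers _)
      refine hw1 (eq_one_of_fix (P := Fix U P) fun p => Subtype.ext ?_)
      rw [← hx, hW]
      exact p.2 x hxU
    obtain ⟨x, hxT, hxN, hxU⟩ := exists_normalizer_growth hT.isPGroup hUT hTU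
    set w := f.rangeRestrict ⟨x, hxN⟩
    obtain ⟨a, ha⟩ : ∃ a, orderOf w = 2 ^ a := by
      obtain ⟨b, hb⟩ := hT.isPGroup ⟨x, hxT⟩
      have hb' : (⟨x, hxN⟩ : N) ^ 2 ^ b = 1 := Subtype.ext
        (show x ^ 2 ^ b = 1 from congrArg Subtype.val hb)
      obtain ⟨a, -, ha⟩ := (Nat.dvd_prime_pow Nat.prime_two).1
        (orderOf_dvd_of_pow_eq_one (x := w) (n := 2 ^ b) (by rw [← map_pow, hb', map_one]))
      exact ⟨a, ha⟩
    rcases a with _ | a
    · exfalso
      rw [pow_zero, orderOf_eq_one_iff] at ha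
      have hfix : ∀ p ∈ fixSet U P, x • p = p := fun p hp => by
        have := hW ⟨x, hxN⟩ ⟨p, hp⟩
        rw [show f.rangeRestrict ⟨x, hxN⟩ = 1 from ha, one_smul] at this
        exact this.symm
      set V := U ⊔ Subgroup.zpowers x
      have hVp : IsPGroup 2 V := hT.isPGroup.to_le (sup_le hUT (Subgroup.zpowers_le.2 hxT))
      have hle := hmax V hVp (hUq.mono fun p hp => hsup x p hp (hfix p hp))
        (Nat.card_le_card_of_injective
          (fun p : Fix V P => (⟨p.1, fun u hu => p.2 u (Subgroup.mem_sup_left hu)⟩ : Fix U P))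
          fun a b hab => Subtype.ext (congrArg (fun z : Fix U P => z.1) hab))
      refine hxU ?_
      rw [Subgroup.eq_of_le_of_card_ge (le_sup_left : U ≤ V) hle]
      exact Subgroup.mem_sup_right (Subgroup.mem_zpowers _)
    have hxH := hT.le hxT
    refine ⟨w ^ 2 ^ a, fun e => ?_, ?_, ?_, ?_, ?_⟩
    · have := orderOf_le_of_pow_eq_one (pow_pos two_pos a) e
      rw [ha] at this
      exact absurd this (Nat.not_le.2 (Nat.pow_lt_pow_right one_lt_two (Nat.lt_succ_self a)))
    · rw [← pow_add, ← two_mul, ← pow_succ', ← ha, pow_orderOf_eq_one]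
    · exact (Subgroup.pow_mem _ (show w ∈ MulAction.stabilizer W l from Subtype.ext hxH.1.1) _)
    · exact (Subgroup.pow_mem _ (show w ∈ MulAction.stabilizer W A from Subtype.ext hxH.1.2) _)
    · exact (Subgroup.pow_mem _ (show w ∈ MulAction.stabilizer W R from Subtype.ext hxH.2) _)
  obtain ⟨p, e, hp, hpe⟩ := prime_power_of_flags (G := W) (P := Fix U P) (L := Fix U L) hk hinv hflag
  refine ⟨p, e * 2 ^ i, hp, ?_⟩
  rw [hi, show k = p ^ e from hpe, ← pow_mul]

end Cfsg.Agent.OstromWagner
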