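import Cfsg.Agent.OstromWagner.Translation
import Cfsg.Agent.OstromWagner.Groups
import Cfsg.Agent.SymDesignPG.FromAction

/-!
# Collineation groups that are 2-transitive on points

Transitivity on lines, antiflags and antiflags with a marked point on the line.
-/

set_option autoImplicit false
set_option linter.style.haveILetI false
set_option linter.unusedVariables false
set_option linter.unusedSectionVars false

namespace Cfsg.Agent.OstromWagner

open Configuration MulAction

/-- Transitive on pairs of different points. -/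
def TwoTr (G P : Type*) [Group G] [MulAction G P] : Prop :=
  ∀ p q p' q' : P, p ≠ q → p' ≠ q' → ∃ g : G, g • p = p' ∧ g • q = q'

variable {G P L : Type*} [Group G] [MulAction G P] [MulAction G L] [Membership P L]
  [ProjectivePlane P L] [Finite P] [Finite L] [PlaneAut G P L] [FaithfulSMul G P]

variable (G P L) in
/-- The plane as a symmetric design. -/
noncomputable def design [Fintype P] [Fintype L] : SymDesignPG.SymDesign G P L where
  I p l := p ∈ l
  smul_iff g _ _ := mem_smul_iff g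
  v := ProjectivePlane.order P L ^ 2 + ProjectivePlane.order P L + 1
  k := ProjectivePlane.order P L + 1
  lam := 1
  card_pts_univ := ProjectivePlane.card_points P L
  card_blks_univ := ProjectivePlane.card_lines P L
  card_blks p := card_through p
  card_pts l := card_on l
  card_blks₂ p p' h := by
    rw [Nat.card_eq_one_iff_exists]
    obtain ⟨l, hl, hl'⟩ := exists_line_through (L := L) p p' h
    exact ⟨⟨l, hl, hl'⟩, fun m => Subtype.ext (line_unique h m.2.1 m.2.2 hl hl')⟩
  card_pts₂ l l' h := by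
    rw [Nat.card_eq_one_iff_exists]
    obtain ⟨p, hp, hp'⟩ := exists_point_on (P := P) l l' h
    exact ⟨⟨p, hp, hp'⟩, fun m => Subtype.ext (point_unique h m.2.1 m.2.2 hp hp')⟩
  lam_lt := by have := two_le_order P L; omega
  two_le_k := by have := two_le_order P L; omega
  k_le := by have := two_le_order P L; nlinarith
  faithful _ h := eq_one_of_fix h

theorem design_I [Fintype P] [Fintype L] {p : P} {l : L} : (design G P L).I p l ↔ p ∈ l := Iff.rfl

theorem exists_two_on (l : L) : ∃ p q : P, p ≠ q ∧ p ∈ l ∧ q ∈ l := by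
  obtain ⟨X, hX⟩ := Nondegenerate.exists_point (P := P) l
  obtain ⟨p, hp, -⟩ := exists_point_ne l X
  obtain ⟨q, hq, hqp⟩ := exists_point_ne l p
  exact ⟨p, q, hqp.symm, hp, hq⟩

variable (h2 : TwoTr G P)
include h2

theorem stab_two_trans {l : L} {p q p' q' : P} (hpq : p ≠ q) (hpq' : p' ≠ q') (hp : p ∈ l)
    (hq : q ∈ l) (hp' : p' ∈ l) (hq' : q' ∈ l) :
    ∃ g : G, g • l = l ∧ g • p = p' ∧ g • q = q' := by
  obtain ⟨g, hgp, hgq⟩ := h2 p q p' q' hpq hpq'
  refine ⟨g, line_unique hpq' ?_ ?_ hp' hq', hgp, hgq⟩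
  · exact hgp ▸ (mem_smul_iff g).2 hp
  · exact hgq ▸ (mem_smul_iff g).2 hq

theorem point_trans (p q : P) : ∃ g : G, g • p = q := by
  by_cases h : p = q
  · exact ⟨1, by rw [one_smul, h]⟩
  · obtain ⟨g, hg, -⟩ := h2 p q q p h (Ne.symm h)
    exact ⟨g, hg⟩

theorem line_trans (l l' : L) : ∃ g : G, g • l = l' := by
  obtain ⟨p, q, hpq, hp, hq⟩ := exists_two_on (P := P) l
  obtain ⟨p', q', hpq', hp', hq'⟩ := exists_two_on (P := P) l'
  obtain ⟨g, hgp, hgq⟩ := h2 p q p' q' hpq hpq'
  exact ⟨g, line_unique hpq' (hgp ▸ (mem_smul_iff g).2 hp) (hgq ▸ (mem_smul_iff g).2 hq) hp' hq'⟩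

variable [Finite G]

theorem point_trans_lines {p : P} {l l' : L} (hl : p ∉ l) (hl' : p ∉ l') :
    ∃ g : G, g • p = p ∧ g • l = l' := by
  classical
  have : Fintype P := Fintype.ofFinite P
  have : Fintype L := Fintype.ofFinite L
  set U := MulAction.stabilizer G p
  obtain ⟨j, -⟩ := exists_line_not_mem (L := L) p
  obtain ⟨q, -, hq⟩ := exists_point_ne j p
  have hfix : ∀ u : U, u • p = p := fun u => u.2
  have hP : Nat.card (MulAction.orbitRel.Quotient U P) = 2 := by
    refine SymDesignPG.orbitQuot_card_two ({p} : Set P) (fun u x => ?_) (a := p) (b := q) rfl hq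
      ?_ ?_
    · simp only [Set.mem_singleton_iff]
      constructor
      · intro h
        exact MulAction.injective u (h.trans (hfix u).symm)
      · rintro rfl
        exact hfix u
    · rintro x rfl
      exact MulAction.mem_orbit_self x
    · intro x hx
      obtain ⟨g, hg, hgq⟩ := h2 p q p x (Ne.symm hq) (Ne.symm hx)
      exact ⟨⟨g, hg⟩, hgq⟩
  rw [(design G P L).orbits_card_eq U] at hP
  obtain ⟨m, hm, -, -⟩ := exists_line_ne₂ (L := L) p l l
  obtain ⟨u, hu⟩ := SymDesignPG.orbitQuot_two {l : L | p ∈ l} (fun u x => by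
    have := mem_smul_iff (u : G) (p := p) (l := x)
    rwa [show (u : G) • p = p from u.2] at this) hm hl hP (x := l') (y := l) (by simp [hl, hl'])
  exact ⟨u, u.2, hu⟩

theorem stab_trans_off {l : L} {A B : P} (hA : A ∉ l) (hB : B ∉ l) :
    ∃ g : G, g • l = l ∧ g • A = B := by
  obtain ⟨g, hg⟩ := point_trans h2 A B
  have hgl : B ∉ g • l := fun h => hA ((mem_smul_iff g).1 (hg.symm ▸ h))
  obtain ⟨u, hu, hu'⟩ := point_trans_lines h2 hgl hB
  exact ⟨u * g, by rw [mul_smul, hu'], by rw [mul_smul, hg, hu]⟩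

theorem stab_trans_lines {l m m' : L} (hm : m ≠ l) (hm' : m' ≠ l) :
    ∃ g : G, g • l = l ∧ g • m = m' := by
  classical
  have : Fintype P := Fintype.ofFinite P
  have : Fintype L := Fintype.ofFinite L
  set U := MulAction.stabilizer G l
  obtain ⟨a, a', haa, ha, ha'⟩ := exists_two_on (P := P) l
  obtain ⟨b, hb⟩ := Nondegenerate.exists_point (P := P) l
  have hfix : ∀ u : U, u • l = l := fun u => u.2
  have hP : Nat.card (MulAction.orbitRel.Quotient U P) = 2 := by
    refine SymDesignPG.orbitQuot_card_two {p : P | p ∈ l} (fun u x => mem_of_fix_line (g := (u : G)) (hfix u))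
      (a := a) (b := b) ha hb (fun x hx => ?_) fun x hx => ?_
    · by_cases hxa : x = a
      · exact hxa ▸ MulAction.mem_orbit_self _
      · obtain ⟨g, hg, hga, -⟩ := stab_two_trans h2 haa hxa ha ha' hx ha
        exact ⟨⟨g, hg⟩, hga⟩
    · obtain ⟨g, hg, hgb⟩ := stab_trans_off h2 hb hx
      exact ⟨⟨g, hg⟩, hgb⟩
  rw [(design G P L).orbits_card_eq U] at hP
  obtain ⟨u, hu⟩ := SymDesignPG.orbitQuot_two ({l} : Set L) (fun u x => by
    simp only [Set.mem_singleton_iff]
    constructor
    · intro h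
      exact MulAction.injective u (h.trans (hfix u).symm)
    · rintro rfl
      exact hfix u) (a := l) (b := m) rfl hm hP (x := m') (y := m) (by simp [hm, hm'])
  exact ⟨u, u.2, hu⟩

theorem orbit_on {l : L} {R : P} (hR : R ∈ l) :
    MulAction.orbit (MulAction.stabilizer G l) R = {p : P | p ∈ l} := by
  refine orbit_eq_of (fun g hg => (mem_of_fix_line hg).2 hR) fun p hp => ?_
  by_cases h : p = R
  · exact ⟨1, one_mem _, by rw [one_smul, h]⟩
  · obtain ⟨g, hg, hgR, -⟩ := stab_two_trans h2 (Ne.symm h) h hR hp hp hR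
    exact ⟨g, hg, hgR⟩

theorem orbit_off {l : L} {A : P} (hA : A ∉ l) :
    MulAction.orbit (MulAction.stabilizer G l) A = {p : P | p ∉ l} :=
  orbit_eq_of (fun g hg h => hA ((mem_of_fix_line hg).1 h)) fun p hp => stab_trans_off h2 hA hp

theorem card_flag_orbit {l : L} {A R : P} (hA : A ∉ l) (hR : R ∈ l) :
    Nat.card (MulAction.orbit (MulAction.stabilizer G l ⊓ MulAction.stabilizer G R : Subgroup G) A)
        = ProjectivePlane.order P L ^ 2 ∧
    Nat.card (MulAction.orbit (MulAction.stabilizer G l ⊓ MulAction.stabilizer G A : Subgroup G) R)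
        = ProjectivePlane.order P L + 1 := by
  set n := ProjectivePlane.order P L with hn
  set H := MulAction.stabilizer G l
  have e1 := orbit_mul_card (G := G) H R
  have e2 := orbit_mul_card (G := G) H A
  have e3 := orbit_mul_card (G := G) (H ⊓ MulAction.stabilizer G R) A
  have e4 := orbit_mul_card (G := G) (H ⊓ MulAction.stabilizer G A) R
  rw [orbit_on h2 hR] at e1
  rw [orbit_off h2 hA] at e2
  rw [inf_right_comm] at e4
  set a := Nat.card (MulAction.orbit (H ⊓ MulAction.stabilizer G A : Subgroup G) R)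
  set b := Nat.card (MulAction.orbit (H ⊓ MulAction.stabilizer G R : Subgroup G) A)
  set c := Nat.card (H ⊓ MulAction.stabilizer G R ⊓ MulAction.stabilizer G A : Subgroup G) with hc
  rw [show Nat.card {p : P | p ∈ l} = n + 1 from card_on l, ← e3] at e1
  rw [show Nat.card {p : P | p ∉ l} = n ^ 2 from card_off l, ← e4] at e2
  have heq : (n + 1) * b = n ^ 2 * a :=
    Nat.eq_of_mul_eq_mul_right (Nat.card_pos : 0 < c) (by rw [mul_assoc, e1, mul_assoc, e2])
  have hble : b ≤ n ^ 2 := by
    rw [hn, ← card_off (P := P) l]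
    exact orbit_card_le (s := {p : P | p ∉ l}) fun g hg h => hA ((mem_of_fix_line hg.1).1 h)
  have hb0 : 0 < b := by
    haveI : Nonempty (MulAction.orbit (H ⊓ MulAction.stabilizer G R : Subgroup G) A) :=
      ⟨⟨A, MulAction.mem_orbit_self A⟩⟩
    exact Nat.card_pos
  have hdvd : n ^ 2 ∣ b := by
    refine Nat.Coprime.dvd_of_dvd_mul_left ?_ ⟨a, heq⟩
    exact Nat.Coprime.pow_left 2 (Nat.coprime_self_add_right.2 (Nat.coprime_one_right n))
  have hb : b = n ^ 2 := le_antisymm hble (Nat.le_of_dvd hb0 hdvd)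
  refine ⟨hb, ?_⟩
  rw [hb, mul_comm] at heq
  exact (Nat.eq_of_mul_eq_mul_left (pow_pos (by have := two_le_order P L; omega) 2) heq).symm

theorem flag_trans_off {l : L} {A B R : P} (hA : A ∉ l) (hB : B ∉ l) (hR : R ∈ l) :
    ∃ g : G, g • l = l ∧ g • R = R ∧ g • A = B := by
  obtain ⟨g, hg, hgA⟩ := orbit_full
    (H := MulAction.stabilizer G l ⊓ MulAction.stabilizer G R) (x := A) (s := {p : P | p ∉ l})
    (fun g hg h => hA ((mem_of_fix_line hg.1).1 h))
    (by rw [(card_flag_orbit h2 hA hR).1]; exact (card_off l).le) B hB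
  exact ⟨g, hg.1, hg.2, hgA⟩

theorem anti_trans_on {l : L} {A R D : P} (hA : A ∉ l) (hR : R ∈ l) (hD : D ∈ l) :
    ∃ g : G, g • l = l ∧ g • A = A ∧ g • R = D := by
  obtain ⟨g, hg, hgR⟩ := orbit_full
    (H := MulAction.stabilizer G l ⊓ MulAction.stabilizer G A) (x := R) (s := {p : P | p ∈ l})
    (fun g hg => (mem_of_fix_line hg.1).2 hR)
    (by rw [(card_flag_orbit h2 hA hR).2]; exact (card_on l).le) D hD
  exact ⟨g, hg.1, hg.2, hgR⟩

theorem triple_trans {l l' : L} {A R A' R' : P} (hA : A ∉ l) (hR : R ∈ l) (hA' : A' ∉ l')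
    (hR' : R' ∈ l') : ∃ g : G, g • l = l' ∧ g • A = A' ∧ g • R = R' := by
  obtain ⟨g, hg⟩ := line_trans h2 l l'
  have h1 : g • A ∉ l' := fun h => hA ((mem_smul_iff g).1 (hg.symm ▸ h))
  have h1' : g • R ∈ l' := hg ▸ (mem_smul_iff g).2 hR
  obtain ⟨u, hu, huA⟩ := stab_trans_off h2 h1 hA'
  have h3 : u • g • R ∈ l' := (mem_of_fix_line hu).2 h1'
  obtain ⟨v, hv, hvA, hvR⟩ := anti_trans_on h2 hA' h3 hR'
  exact ⟨v * u * g, by rw [mul_smul, mul_smul, hg, hu, hv],
    by rw [mul_smul, mul_smul, huA, hvA], by rw [mul_smul, mul_smul, hvR]⟩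

include L in
theorem exists_involution : ∃ g : G, g ≠ 1 ∧ g * g = 1 := by
  haveI := Fact.mk Nat.prime_two
  obtain ⟨p⟩ : Nonempty P := ⟨(Classical.choose (@ProjectivePlane.exists_config P L _ _))⟩
  obtain ⟨l, hl⟩ := exists_line_not_mem (L := L) p
  obtain ⟨q, hq, -⟩ := exists_point_ne l p
  have hpq : p ≠ q := fun e => hl (e ▸ hq)
  obtain ⟨g, hgp, hgq⟩ := h2 p q q p hpq hpq.symm
  have heven : 2 ∣ orderOf g := by
    by_contra hodd
    obtain ⟨r, hr⟩ : Odd (orderOf g) := Nat.odd_iff.2 (Nat.two_dvd_ne_zero.1 hodd)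
    have h2' : ∀ i : ℕ, g ^ (2 * i) • p = p := by
      intro i
      induction i with
      | zero => rw [pow_zero, one_smul]
      | succ i ih => rw [Nat.mul_succ, pow_add, pow_two, mul_smul, mul_smul, hgp, hgq, ih]
    have := pow_orderOf_eq_one g
    rw [hr, pow_succ'] at this
    exact hpq (by
      conv_lhs => rw [← one_smul G p, ← this, mul_smul, h2', hgp])
  obtain ⟨x, hx⟩ := exists_prime_orderOf_dvd_card' (G := G) 2 (heven.trans (orderOf_dvd_natCard g))
  refine ⟨x, fun e => ?_, ?_⟩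
  · rw [e, orderOf_one] at hx; omega
  · rw [← pow_two, ← hx, pow_orderOf_eq_one]

end Cfsg.Agent.OstromWagner
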