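import Cfsg.Agent.OstromWagner.Plane

/-!
# Elations and involutory homologies

The elations with a given axis form a group, abelian of prime exponent as soon as two centres
occur; in odd order every involutory perspectivity is a homology.
-/

set_option autoImplicit false
set_option linter.style.haveILetI false
set_option linter.unusedVariables false
set_option linter.unusedSectionVars false

namespace Cfsg.Agent.OstromWagner

open Configuration MulAction

variable {G P L : Type*} [Group G] [MulAction G P] [MulAction G L] [Membership P L]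
  [ProjectivePlane P L] [Finite P] [Finite L] [PlaneAut G P L] [FaithfulSMul G P]

theorem eq_one_of_fix {g : G} (h : ∀ p : P, g • p = p) : g = 1 :=
  FaithfulSMul.eq_of_smul_eq_smul fun p : P => by rw [h p, one_smul]

theorem exists_moved {g : G} (h : g ≠ 1) : ∃ p : P, g • p ≠ p := by
  by_contra hcon
  push Not at hcon
  exact h (eq_one_of_fix hcon)

theorem axis_unique {g : G} (h : g ≠ 1) {c c' : L} (hc : FixesLine (P := P) g c)
    (hc' : FixesLine (P := P) g c') : c = c' :=
  by_contra fun hne => h (eq_one_of_fix (two_axes hne hc hc'))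

theorem centre_unique {g : G} (h : g ≠ 1) {O O' : P} (hO : HasCentre (L := L) g O)
    (hO' : HasCentre (L := L) g O') : O = O' :=
  by_contra fun hne => h (eq_one_of_fix (two_centres hne hO hO'))

variable (P) in
/-- An elation with axis `l`, or the identity. -/
def IsTrans (l : L) (g : G) : Prop :=
  FixesLine (P := P) g l ∧ ∀ p : P, p ∉ l → g • p = p → g = 1

theorem IsTrans.centre_mem {l : L} {g : G} (h : IsTrans P l g) (h1 : g ≠ 1) {O : P}
    (hO : HasCentre (L := L) g O) : O ∈ l :=
  by_contra fun hOl => h1 (h.2 O hOl hO.fix)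

theorem IsTrans.exists_centre {l : L} {g : G} (h : IsTrans P l g) (h1 : g ≠ 1) :
    ∃ O : P, O ∈ l ∧ HasCentre (L := L) g O := by
  obtain ⟨O, hO⟩ := OstromWagner.exists_centre h.1
  exact ⟨O, h.centre_mem h1 hO, hO⟩

theorem isTrans_of {l : L} {g : G} {O : P} (hc : FixesLine (P := P) g l)
    (hO : HasCentre (L := L) g O) (hOl : O ∈ l) : IsTrans P l g := by
  refine ⟨hc, fun p hp hfix => ?_⟩
  by_contra h1
  rcases fixed_point (exists_moved h1) hc hO hfix with h | h
  · exact hp h
  · exact hp (h ▸ hOl)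

variable (G P) in
/-- The group of elations with axis `l`. -/
def transl (l : L) : Subgroup G where
  carrier := {g | IsTrans P l g}
  one_mem' := ⟨fun p _ => one_smul G p, fun _ _ _ => rfl⟩
  mul_mem' := by
    rintro t s ht hs
    refine ⟨ht.1.mul hs.1, fun A hA hfix => ?_⟩
    rw [mul_smul] at hfix
    by_cases hB : s • A = A
    · rw [hs.2 A hA hB, one_smul] at hfix
      rw [hs.2 A hA hB, ht.2 A hA hfix, one_mul]
    have hs1 : s ≠ 1 := fun e => hB (by rw [e, one_smul])
    have ht1 : t ≠ 1 := fun e => hB (by rwa [e, one_smul] at hfix)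
    obtain ⟨C, hC, hCs⟩ := hs.exists_centre hs1
    obtain ⟨C', hC', hCt⟩ := ht.exists_centre ht1
    have hBl : s • A ∉ l := fun h => hA ((mem_of_fix_line hs.1.fix).1 h)
    obtain ⟨j, hj1, hj2⟩ := exists_line_through (L := L) C A fun e => hA (e ▸ hC)
    have hjB : s • A ∈ j := (mem_of_fix_line (hCs j hj1)).2 hj2
    obtain ⟨j', hj'1, hj'2⟩ := exists_line_through (L := L) C' (s • A) fun e => hBl (e ▸ hC')
    have hjA : A ∈ j' := hfix ▸ (mem_of_fix_line (hCt j' hj'1)).2 hj'2
    have hjj : j = j' := line_unique (Ne.symm hB) hj2 hjB hjA hj'2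
    have hjl : j ≠ l := fun e => hA (e ▸ hj2)
    have hCC : C = C' := point_unique hjl hj1 hC (hjj ▸ hj'1) hC'
    subst hCC
    by_contra h1
    rcases fixed_point (exists_moved h1) (ht.1.mul hs.1) (hCt.mul hCs)
      (by rwa [mul_smul]) with h | h
    · exact hA h
    · exact hA (h ▸ hC)
  inv_mem' := by
    intro t ht
    refine ⟨ht.1.inv, fun A hA hfix => ?_⟩
    rw [ht.2 A hA (by rw [inv_smul_eq_iff] at hfix; exact hfix.symm), inv_one]

theorem mem_transl {l : L} {g : G} : g ∈ transl G P l ↔ IsTrans P l g := Iff.rfl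

variable (G L) in
/-- The collineations with centre `O`. -/
def cenGrp (O : P) : Subgroup G where
  carrier := {g | HasCentre (L := L) g O}
  one_mem' := fun m _ => one_smul G m
  mul_mem' := fun ha hb => HasCentre.mul ha hb
  inv_mem' := fun ha => HasCentre.inv ha

theorem mem_cenGrp {O : P} {g : G} : g ∈ cenGrp G L O ↔ HasCentre (L := L) g O := Iff.rfl

theorem transl_conj {l : L} {t : G} (ht : t ∈ transl G P l) (g : G) :
    g * t * g⁻¹ ∈ transl G P (g • l) := by
  refine ⟨(mem_transl.1 ht).1.conj g, fun p hp hfix => ?_⟩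
  have h1 : t • g⁻¹ • p = g⁻¹ • p := by
    rw [mul_smul, mul_smul] at hfix
    exact eq_inv_smul_iff.2 hfix
  have h2 : g⁻¹ • p ∉ l := fun h => hp (by
    have := (mem_smul_iff g).2 h
    rwa [smul_inv_smul] at this)
  rw [(mem_transl.1 ht).2 _ h2 h1, mul_one, mul_inv_cancel]

theorem transl_inj {l : L} {t s : G} (ht : t ∈ transl G P l) (hs : s ∈ transl G P l) {A : P}
    (hA : A ∉ l) (he : t • A = s • A) : t = s := by
  have := (mem_transl.1 (mul_mem (inv_mem hs) ht)).2 A hA (by rw [mul_smul, he, inv_smul_smul])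
  exact (inv_mul_eq_one.1 this).symm

/-- Elations with one axis and different centres commute. -/
theorem transl_comm_ne {l : L} {t s : G} {C D : P} (ht : t ∈ transl G P l)
    (hs : s ∈ transl G P l) (hC : HasCentre (L := L) t C) (hD : HasCentre (L := L) s D)
    (hCl : C ∈ l) (hDl : D ∈ l) (hne : C ≠ D) : t * s = s * t := by
  have h1 : HasCentre (L := L) (t * s * t⁻¹ * s⁻¹) D := by
    have := hD.conj t
    rw [(mem_transl.1 ht).1 D hDl] at this
    exact this.mul hD.inv
  have h2 : HasCentre (L := L) (t * s * t⁻¹ * s⁻¹) C := by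
    have := hC.inv.conj s
    rw [(mem_transl.1 hs).1 C hCl] at this
    rw [show t * s * t⁻¹ * s⁻¹ = t * (s * t⁻¹ * s⁻¹) by group]
    exact hC.mul this
  have := eq_one_of_fix (two_centres hne h2 h1)
  rwa [mul_inv_eq_one, mul_inv_eq_iff_eq_mul] at this

variable (G P) in
/-- Two centres occur among the elations with axis `l`. -/
def TwoCentres (l : L) : Prop :=
  ∀ C : P, ∃ t ∈ transl G P l, ¬ HasCentre (L := L) t C

theorem transl_comm {l : L} (h2 : TwoCentres G P l) {t s : G} (ht : t ∈ transl G P l)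
    (hs : s ∈ transl G P l) : t * s = s * t := by
  by_cases ht1 : t = 1
  · simp [ht1]
  by_cases hs1 : s = 1
  · simp [hs1]
  obtain ⟨C, hCl, hC⟩ := (mem_transl.1 ht).exists_centre ht1
  obtain ⟨D, hDl, hD⟩ := (mem_transl.1 hs).exists_centre hs1
  by_cases hne : C = D
  · subst hne
    obtain ⟨u, hu, huC⟩ := h2 C
    have hu1 : u ≠ 1 := fun e => huC (e ▸ (cenGrp G L C).one_mem)
    obtain ⟨E, hEl, hE⟩ := (mem_transl.1 hu).exists_centre hu1
    have hEC : C ≠ E := fun e => huC (e ▸ hE)
    have hsu : s * u ∈ transl G P l := mul_mem hs hu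
    have hsu1 : s * u ≠ 1 := fun e => huC (by
      rw [← inv_eq_of_mul_eq_one_right e]
      exact hD.inv)
    obtain ⟨F, hFl, hF⟩ := (mem_transl.1 hsu).exists_centre hsu1
    have hFC : C ≠ F := fun e => huC (by
      have := hD.inv.mul (e ▸ hF)
      rwa [inv_mul_cancel_left] at this)
    have c1 := transl_comm_ne ht hsu hC hF hCl hFl hFC
    have c2 := transl_comm_ne ht hu hC hE hCl hEl hEC
    calc t * s = t * (s * u) * u⁻¹ := by group
      _ = s * u * t * u⁻¹ := by rw [c1]
      _ = s * (t * u) * u⁻¹ := by rw [c2]; group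
      _ = s * t := by group
  · exact transl_comm_ne ht hs hC hD hCl hDl hne

/-- With two centres the elations with one axis have prime exponent. -/
theorem transl_exponent [Finite G] {l : L} (h2 : TwoCentres G P l) {t : G}
    (ht : t ∈ transl G P l) (ht1 : t ≠ 1) :
    ∃ p : ℕ, p.Prime ∧ ∀ s ∈ transl G P l, s ^ p = 1 := by
  obtain ⟨p, hp, hpd⟩ := Nat.exists_prime_and_dvd (n := orderOf t)
    (fun h => ht1 (orderOf_eq_one_iff.1 h))
  refine ⟨p, hp, ?_⟩
  set u := t ^ (orderOf t / p) with hu
  have huM : u ∈ transl G P l := pow_mem ht _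
  have hu1 : u ≠ 1 := fun e => by
    have hlt : orderOf t / p < orderOf t := Nat.div_lt_self (orderOf_pos t) hp.one_lt
    have hpos : 0 < orderOf t / p := Nat.div_pos (Nat.le_of_dvd (orderOf_pos t) hpd) hp.pos
    exact Nat.not_lt.2 (orderOf_le_of_pow_eq_one hpos e) hlt
  have hup : u ^ p = 1 := by rw [hu, ← pow_mul, Nat.div_mul_cancel hpd, pow_orderOf_eq_one]
  have key : ∀ (v w : G) (C D : P), v ∈ transl G P l → w ∈ transl G P l → v ≠ 1 →
      HasCentre (L := L) v C → C ∈ l → HasCentre (L := L) w D → D ∈ l → C ≠ D → v ^ p = 1 →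
      w ^ p = 1 := by
    intro v w C D hv hw hv1 hvC hCl hwD hDl hne hvp
    by_contra hwp
    have he : (v * w) ^ p = w ^ p := by
      rw [(show Commute v w from transl_comm h2 hv hw).mul_pow, hvp, one_mul]
    have hvw : v * w ≠ 1 := fun e => hwp (by rw [← he, e, one_pow])
    obtain ⟨E, hEl, hE⟩ := (mem_transl.1 (mul_mem hv hw)).exists_centre hvw
    have hED : E = D := centre_unique hwp (he ▸ (cenGrp G L E).pow_mem hE p)
      ((cenGrp G L D).pow_mem hwD p)
    refine hne (centre_unique hv1 hvC ?_)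
    have := (hED ▸ hE).mul hwD.inv
    rwa [mul_inv_cancel_right] at this
  obtain ⟨C, hCl, hC⟩ := (mem_transl.1 huM).exists_centre hu1
  intro s hs
  by_cases hs1 : s = 1
  · simp [hs1]
  obtain ⟨D, hDl, hD⟩ := (mem_transl.1 hs).exists_centre hs1
  by_cases hCD : C = D
  · subst hCD
    obtain ⟨w, hw, hwC⟩ := h2 C
    have hw1 : w ≠ 1 := fun e => hwC (e ▸ (cenGrp G L C).one_mem)
    obtain ⟨E, hEl, hE⟩ := (mem_transl.1 hw).exists_centre hw1
    have hCE : C ≠ E := fun e => hwC (e ▸ hE)
    exact key w s E C hw hs hw1 hE hEl hD hDl hCE.symm (key u w C E huM hw hu1 hC hCl hE hEl hCE hup)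
  · exact key u s C D huM hs hu1 hC hCl hD hDl hCD hup

theorem transl_card_prime_pow [Finite G] {l : L} (h2 : TwoCentres G P l) {t : G}
    (ht : t ∈ transl G P l) (ht1 : t ≠ 1) :
    ∃ p e : ℕ, p.Prime ∧ Nat.card (transl G P l) = p ^ e := by
  obtain ⟨p, hp, hexp⟩ := transl_exponent h2 ht ht1
  haveI := Fact.mk hp
  have : IsPGroup p (transl G P l) := fun x => ⟨1, by
    rw [pow_one]
    exact Subtype.ext (hexp x x.2)⟩
  obtain ⟨e, he⟩ := this.exists_card_eq
  exact ⟨p, e, hp, he⟩

theorem card_off (l : L) :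
    Nat.card {p : P // p ∉ l} = ProjectivePlane.order P L ^ 2 := by
  classical
  have : Fintype P := Fintype.ofFinite P
  rw [Nat.card_eq_fintype_card, Fintype.card_subtype_compl, ← Nat.card_eq_fintype_card,
    ← Nat.card_eq_fintype_card, natCard_points P L, card_on]
  omega

section Invol

variable {g : G} {c : L} {O : P}

theorem sq_smul (hg : g * g = 1) (p : P) : g • g • p = p := by rw [← mul_smul, hg, one_smul]

/-- In odd order an involutory perspectivity is a homology. -/
theorem centre_not_mem (hn : Odd (ProjectivePlane.order P L)) (h1 : g ≠ 1) (hg : g * g = 1)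
    (hc : FixesLine (P := P) g c) (hO : HasCentre (L := L) g O) : O ∉ c := by
  classical
  intro hOc
  have : Fintype P := Fintype.ofFinite P
  obtain ⟨m, hm, hmc, -⟩ := exists_line_ne₂ (L := L) O c c
  set s := (Finset.univ.filter fun p : P => p ∈ m).erase O with hs
  have hcard : s.card = ProjectivePlane.order P L := by
    rw [hs, Finset.card_erase_of_mem (by simpa using hm), ← Fintype.card_subtype,
      ← Nat.card_eq_fintype_card, card_on, Nat.add_sub_cancel]
  have hmoved : ∀ p ∈ s, g • p ≠ p := by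
    intro p hp hfix
    simp only [hs, Finset.mem_erase, Finset.mem_filter, Finset.mem_univ, true_and] at hp
    rcases fixed_point (exists_moved h1) hc hO hfix with h | h
    · exact hp.1 (point_unique hmc hp.2 h hm hOc)
    · exact hp.1 h
  have h := Finset.sum_involution (s := s) (f := fun _ => (1 : ZMod 2)) (fun p _ => g • p)
    (fun p _ => by decide) (fun p hp _ => hmoved p hp) (fun p hp => by
      simp only [hs, Finset.mem_erase, Finset.mem_filter, Finset.mem_univ, true_and] at hp ⊢
      refine ⟨fun e => hp.1 ?_, (mem_of_fix_line (hO m hm)).2 hp.2⟩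
      rw [← sq_smul hg p, e, hO.fix]) (fun p hp => sq_smul hg p)
  rw [Finset.sum_const, nsmul_eq_mul, mul_one, hcard, ZMod.natCast_eq_zero_iff_even] at h
  exact Nat.not_even_iff_odd.2 hn h

theorem transl_no_invol (hn : Odd (ProjectivePlane.order P L)) {l : L} (hg : g * g = 1)
    (ht : g ∈ transl G P l) : g = 1 := by
  by_contra h1
  obtain ⟨C, hCl, hC⟩ := (mem_transl.1 ht).exists_centre h1
  exact centre_not_mem hn h1 hg (mem_transl.1 ht).1 hC hCl

theorem transl_card_odd [Finite G] (hn : Odd (ProjectivePlane.order P L)) (l : L) :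
    Odd (Nat.card (transl G P l)) := by
  rw [← Nat.not_even_iff_odd]
  intro he
  haveI := Fact.mk Nat.prime_two
  obtain ⟨x, hx⟩ := exists_prime_orderOf_dvd_card' (G := transl G P l) 2
    (even_iff_two_dvd.1 he)
  have hx2 : x * x = 1 := by rw [← pow_two, ← hx, pow_orderOf_eq_one]
  have h1 := transl_no_invol hn (congrArg Subtype.val hx2) x.2
  rw [Subtype.ext (h1.trans (Subgroup.coe_one _).symm), orderOf_one] at hx
  omega

end Invol

/-- An involutory homology with centre `C` and axis `b`. -/
structure Hom (g : G) (C : P) (b : L) : Prop where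
  ne_one : g ≠ 1
  sq : g * g = 1
  axis : FixesLine (P := P) g b
  centre : HasCentre (L := L) g C
  not_mem : C ∉ b

namespace Hom

variable {g g' : G} {C : P} {b : L}

theorem inv_eq (h : Hom g C b) : g⁻¹ = g := inv_eq_of_mul_eq_one_right h.sq

theorem fix_point (h : Hom g C b) {p : P} (hp : g • p = p) : p ∈ b ∨ p = C :=
  fixed_point (exists_moved h.ne_one) h.axis h.centre hp

theorem fix_line (h : Hom g C b) {m : L} (hm : g • m = m) : C ∈ m ∨ m = b :=
  fixed_line (exists_moved (P := P) h.ne_one) h.axis h.centre hm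

/-- The product of two homologies with one centre and different axes is an elation with that
centre. -/
theorem prod_same_centre (h : Hom g C b) {b' : L} (h' : Hom g' C b') (hne : b ≠ b') :
    g * g' ≠ 1 ∧ HasCentre (L := L) (g * g') C ∧ ∃ c : L, C ∈ c ∧ g * g' ∈ transl G P c := by
  have h1 : g * g' ≠ 1 := fun e => by
    have : g' = g := by rw [← inv_eq_of_mul_eq_one_right e, h.inv_eq]
    exact hne (axis_unique h.ne_one h.axis (this ▸ h'.axis))
  have hcen : HasCentre (L := L) (g * g') C := h.centre.mul h'.centre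
  obtain ⟨c, hc⟩ := OstromWagner.exists_axis hcen
  refine ⟨h1, hcen, c, ?_⟩
  have e1 : g * (g * g') * g⁻¹ = (g * g')⁻¹ := by
    rw [mul_inv_rev, h.inv_eq, h'.inv_eq, ← mul_assoc g g, h.sq, one_mul]
  have e2 : g' * (g * g') * g'⁻¹ = (g * g')⁻¹ := by
    rw [mul_inv_rev, h.inv_eq, h'.inv_eq, mul_assoc, mul_assoc g, h'.sq, mul_one]
  have hne1 : (g * g')⁻¹ ≠ 1 := inv_ne_one.2 h1
  have f1 : g • c = c := axis_unique hne1 (e1 ▸ hc.conj g) hc.inv
  have f2 : g' • c = c := axis_unique hne1 (e2 ▸ hc.conj g') hc.inv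
  have hCc : C ∈ c := by
    rcases h.fix_line f1 with h3 | h3
    · exact h3
    · rcases h'.fix_line f2 with h4 | h4
      · exact h4
      · exact absurd (h3.symm.trans h4) hne
  exact ⟨hCc, isTrans_of hc hcen hCc⟩

end Hom

end Cfsg.Agent.OstromWagner
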